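import Groth.Agent.DR39.Balance
import Groth.Prelude.Def_IntMult

/-!
# `Tor_p(M, N) ≅ Tor_p(N, M)`
-/

set_option autoImplicit false
set_option linter.style.haveILetI false

universe u

open CategoryTheory CategoryTheory.Limits MonoidalCategory

attribute [local instance] HasDerivedCategory.standard

namespace Groth.Agent.LA18

variable {A : Type u} [CommRing A]

theorem exists_tor_iso_tensorCx (M N : ModuleCat.{u} A) (q : ℕ) :
    ∃ F : DRing.Cx A, DRing.VanishesAbove F 0 ∧ (∀ i, Module.Projective A (F.X i)) ∧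
      Nonempty ((DR39.QA A).obj F ≅ Dual.inD A N) ∧
      Nonempty ((((CategoryTheory.Tor (ModuleCat.{u} A) (q + 1)).obj M).obj N) ≅
        (DRing.tensorCx F M).homology (-((q + 1 : ℕ) : ℤ))) := by
  let P : ProjectiveResolution N := (HasProjectiveResolution.out (Z := N)).some
  haveI : P.cochainComplex.IsStrictlyLE 0 := inferInstance
  refine ⟨P.cochainComplex, fun i hi => CochainComplex.isZero_of_isStrictlyLE _ 0 i hi, fun i => ?_,
    ⟨@asIso _ _ _ _ (DerivedCategory.Q.map P.π')
      ((DerivedCategory.isIso_Q_map_iff_quasiIso _ P.π').2 inferInstance)⟩, ?_⟩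
  · have hP : Projective (P.cochainComplex.X i) := inferInstance
    exact (IsProjective.iff_projective (R := A) (P.cochainComplex.X i)).2 hP
  · let e := P.isoLeftDerivedObj ((tensoringLeft (ModuleCat.{u} A)).obj M) (q + 1)
    let G := tensorRight M
    let C := (G.mapHomologicalComplex _).obj P.complex
    let sIso : (((tensoringLeft (ModuleCat.{u} A)).obj M).mapHomologicalComplex _).obj P.complex ≅ C :=
      (NatIso.mapHomologicalComplex (NatIso.ofComponents (fun X => β_ M X)
        (fun {X Y} f => BraidedCategory.braiding_naturality_right M f) :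
          (tensoringLeft (ModuleCat.{u} A)).obj M ≅ G) _).app P.complex
    let D : DRing.Cx A := DRing.tensorCx P.cochainComplex M
    let eX : ∀ k : ℕ, (C.X k) ≅ D.X (-(k : ℤ)) := fun k =>
      G.mapIso (P.cochainComplexXIso (-(k : ℤ)) k rfl).symm
    let rIso : C ≅ D.restriction ComplexShape.embeddingDownNat :=
      HomologicalComplex.Hom.isoOfComponents eX fun k l _ => by
        change G.map _ ≫ G.map (P.cochainComplex.d (-(k : ℤ)) (-(l : ℤ))) =
          G.map (P.complex.d k l) ≫ G.map _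
        rw [P.cochainComplex_d (-(k : ℤ)) (-(l : ℤ)) k l rfl rfl, ← G.map_comp, ← G.map_comp,
          Iso.symm_hom, Iso.symm_hom, Iso.inv_hom_id_assoc]
    exact ⟨e ≪≫ (HomologicalComplex.homologyFunctor _ _ (q + 1)).mapIso (sIso ≪≫ rIso) ≪≫
      D.restrictionHomologyIso ComplexShape.embeddingDownNat (q + 2) (q + 1) q (by simp) (by simp)
        (i' := -((q + 2 : ℕ) : ℤ)) (j' := -((q + 1 : ℕ) : ℤ)) (k' := -((q : ℕ) : ℤ))
        rfl rfl rfl (by simp; omega) (by simp)⟩

/-- `Tor` is symmetric. -/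
theorem tor_symm (M N : Type u) [AddCommGroup M] [Module A M] [AddCommGroup N] [Module A N] :
    ∀ p : ℕ, Nonempty (DRing.Tor A p M N ≃ₗ[A] DRing.Tor A p N M)
  | 0 =>
    ⟨((Functor.leftDerivedZeroIsoSelf ((tensoringLeft (ModuleCat.{u} A)).obj (ModuleCat.of A M))).app
        (ModuleCat.of A N) ≪≫ β_ (ModuleCat.of A M) (ModuleCat.of A N) ≪≫
      ((Functor.leftDerivedZeroIsoSelf ((tensoringLeft (ModuleCat.{u} A)).obj (ModuleCat.of A N))).app
        (ModuleCat.of A M)).symm).toLinearEquiv⟩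
  | q + 1 => by
    obtain ⟨F, hFb, hFp, ⟨eF⟩, ⟨f⟩⟩ := exists_tor_iso_tensorCx (ModuleCat.of A M) (ModuleCat.of A N) q
    obtain ⟨E, hEb, hEp, ⟨eE⟩, ⟨g⟩⟩ := exists_tor_iso_tensorCx (ModuleCat.of A N) (ModuleCat.of A M) q
    obtain ⟨b⟩ := DR39.balance hFb hFp eF hEb hEp eE (-((q + 1 : ℕ) : ℤ))
    exact ⟨(f ≪≫ b ≪≫ g.symm).toLinearEquiv⟩

theorem chi_comm (M N : Type u) [AddCommGroup M] [Module A M] [AddCommGroup N] [Module A N] :
    IntMult.chi A M N = IntMult.chi A N M :=
  finsum_congr fun p => by rw [(tor_symm M N p).some.length_eq]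

end Groth.Agent.LA18
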