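import Groth.Agent.Sep12.Basic
import Mathlib.RingTheory.AdicCompletion.RingHom
import Mathlib.Algebra.CharP.Algebra
import Mathlib.Algebra.Algebra.ZMod
import Mathlib.Algebra.Field.ZMod
import Mathlib.Algebra.Field.ULift
import Mathlib.FieldTheory.Perfect
import Mathlib.RingTheory.LocalRing.ResidueField.Basic

/-!
# Coefficient fields of complete local rings of prime characteristic
-/

set_option autoImplicit false

universe u

set_option maxHeartbeats 800000

open IsLocalRing

namespace Groth.Agent.LA18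

theorem exists_coefficient_field (B : Type u) [CommRing B] [IsLocalRing B]
    [IsAdicComplete (maximalIdeal B) B] (p : ℕ) [Fact p.Prime] [CharP B p] :
    ∃ σ : ResidueField B →+* B, ∀ a, residue B (σ a) = a := by
  let _ : Algebra (ULift.{u} (ZMod p)) B := ((ZMod.castHom dvd_rfl B).comp (ULift.ringEquiv.toRingHom : (ULift.{u} (ZMod p)) →+* ZMod p)).toAlgebra
  have : Finite (ULift.{u} (ZMod p)) := inferInstance
  have : PerfectField (ULift.{u} (ZMod p)) := inferInstance
  let _ : Algebra (ULift.{u} (ZMod p)) (ResidueField B) := ((residue B).comp (algebraMap (ULift.{u} (ZMod p)) B)).toAlgebra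
  have : Algebra.FormallySmooth (ULift.{u} (ZMod p)) (ResidueField B) :=
    Sep12.formallySmooth_of_perfectField (ULift.{u} (ZMod p)) (ResidueField B)
  let m := maximalIdeal B
  have hnil : ∀ n : ℕ, IsNilpotent (RingHom.ker
      ((Ideal.Quotient.factorₐ (ULift.{u} (ZMod p)) (Ideal.pow_le_pow_right (I := m) (n + 1).le_succ)) :
        (B ⧸ m ^ (n + 2)) →+* B ⧸ m ^ (n + 1))) := fun n => by
    refine ⟨2, ?_⟩
    show RingHom.ker (Ideal.Quotient.factor (Ideal.pow_le_pow_right (I := m) (n + 1).le_succ)) ^ 2 = ⊥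
    rw [Ideal.Quotient.factor_ker, ← Ideal.map_pow, Ideal.map_eq_bot_iff_le_ker, Ideal.mk_ker,
      ← pow_mul]
    exact Ideal.pow_le_pow_right (by omega)
  let f₀ : ResidueField B →ₐ[ULift.{u} (ZMod p)] B ⧸ m ^ 1 :=
    (Ideal.quotientEquivAlgOfEq (ULift.{u} (ZMod p)) (pow_one m).symm).toAlgHom.comp
      { toRingHom := RingHom.id (ResidueField B)
        commutes' := fun _ => rfl }
  let π : ∀ n : ℕ, B ⧸ m ^ (n + 2) →ₐ[ULift.{u} (ZMod p)] B ⧸ m ^ (n + 1) := fun n =>
    Ideal.Quotient.factorₐ (ULift.{u} (ZMod p)) (Ideal.pow_le_pow_right (I := m) (n + 1).le_succ)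
  have hπ : ∀ n, Function.Surjective (π n) := fun n =>
    Ideal.Quotient.factor_surjective (Ideal.pow_le_pow_right (I := m) (n + 1).le_succ)
  let step : ∀ n : ℕ, (ResidueField B →ₐ[ULift.{u} (ZMod p)] B ⧸ m ^ (n + 1)) →
      (ResidueField B →ₐ[ULift.{u} (ZMod p)] B ⧸ m ^ (n + 2)) := fun n g =>
    Algebra.FormallySmooth.liftOfSurjective g (π n) (hπ n) (hnil n)
  let f : (n : ℕ) → ResidueField B →ₐ[ULift.{u} (ZMod p)] B ⧸ m ^ (n + 1) := fun n =>
    Nat.rec (motive := fun n => ResidueField B →ₐ[ULift.{u} (ZMod p)] B ⧸ m ^ (n + 1)) f₀ step n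
  have hf : ∀ n, (π n).comp (f (n + 1)) = f n := fun n =>
    Algebra.FormallySmooth.comp_liftOfSurjective (f n) (π n) (hπ n) (hnil n)
  have ha : StrictMono fun n : ℕ => n + 1 := fun a b h => by show a + 1 < b + 1; omega
  let σ := IsAdicComplete.StrictMono.liftRingHom m ha (fun n => (f n).toRingHom)
    (fun {n} => RingHom.ext fun x => AlgHom.congr_fun (hf n) x)
  refine ⟨σ, fun a => ?_⟩
  have h := IsAdicComplete.StrictMono.mk_liftRingHom m ha (fun n => (f n).toRingHom)
    (fun {n} => RingHom.ext fun x => AlgHom.congr_fun (hf n) x) (n := 0) a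
  have h' := congrArg (Ideal.quotientEquivAlgOfEq (ULift.{u} (ZMod p)) (pow_one m)) h
  obtain ⟨b, rfl⟩ := residue_surjective a
  exact h'

end Groth.Agent.LA18
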