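import Groth.Agent.LA18.Lift
import Groth.Agent.Koszul19.Seq
import Mathlib.RingTheory.Flat.Basic

/-!
# The top of the Koszul complex, and killing its homology over a ring finite over a regular one
-/

set_option autoImplicit false

universe u

open CategoryTheory TensorProduct Groth.Agent.Koszul19

namespace Groth.Agent.LA18

variable {A : Type u} [CommRing A]

/-- projection off a trivial second factor -/
def fstEquiv (M N : Type u) [AddCommGroup M] [Module A M] [AddCommGroup N] [Module A N]
    [Subsingleton N] : (M × N) ≃ₗ[A] M :=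
  { LinearMap.fst A M N with
    invFun := fun m => (m, 0)
    left_inv := fun _ => Prod.ext rfl (Subsingleton.elim _ _)
    right_inv := fun _ => rfl }

theorem nonempty_top_equiv : ∀ (l : List A) (q : ℤ), q = -(l.length : ℤ) →
    Nonempty (((Koszul.koszul A l).X q : Type u) ≃ₗ[A] A)
  | [], q, h => by
    obtain rfl : q = 0 := by simpa using h
    exact ⟨nilZero⟩
  | f :: l, q, h => by
    simp only [List.length_cons] at h
    have := subsingleton_X l q (Or.inr (by omega))
    obtain ⟨e⟩ := nonempty_top_equiv l (q + 1) (by omega)
    exact ⟨((consData f l).e q (q + 1) rfl).trans ((fstEquiv _ _).trans e)⟩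

theorem dd_mem_smul : ∀ (l : List A) (p q : ℤ), p + 1 = q → ∀ x : (Koszul.koszul A l).X p,
    dd (Koszul.koszul A l) p q x ∈
      Ideal.ofList l • (⊤ : Submodule A ((Koszul.koszul A l).X q))
  | [], p, q, h, x => by
    by_cases hq : q = 0
    · have := subsingleton_nil (A := A) (show p ≠ 0 by omega)
      rw [Subsingleton.elim x 0, map_zero]
      exact zero_mem _
    · have := subsingleton_nil (A := A) hq
      rw [Subsingleton.elim (dd (Koszul.koszul A []) p q x) 0]
      exact zero_mem _
  | f :: l, p, q, h, x => by
    have hle : Ideal.ofList l ≤ Ideal.ofList (f :: l) := by rw [Ideal.ofList_cons]; exact le_sup_right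
    have hf : f ∈ Ideal.ofList (f :: l) := Ideal.subset_span (by simp)
    let e := (consData f l).e q (q + 1) rfl
    have hmem : ((consData f l).e q (q + 1) rfl) (dd (Koszul.koszul A (f :: l)) p q x) ∈
        Ideal.ofList (f :: l) • (⊤ : Submodule A
          (((Koszul.koszul A l).X (q + 1) : Type u) × ((Koszul.koszul A l).X q : Type u))) := by
      rw [(consData f l).d_eq p q (q + 1) h rfl, LinearEquiv.apply_symm_apply]
      set a := ((consData f l).e p q h x).1
      set b := ((consData f l).e p q h x).2
      have hinl := Submodule.smul_mono hle le_rfl (Submodule.neg_mem _ (dd_mem_smul l q (q + 1) rfl a))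
      have hinr := Submodule.smul_mono hle le_rfl (dd_mem_smul l p q h b)
      have h3 : f • a + dd (Koszul.koszul A l) p q b ∈ Ideal.ofList (f :: l) •
          (⊤ : Submodule A ((Koszul.koszul A l).X q)) :=
        add_mem (Submodule.smul_mem_smul hf trivial) hinr
      have e1 := Submodule.mem_map_of_mem (f := LinearMap.inl A _ ((Koszul.koszul A l).X q : Type u)) hinl
      have e2 := Submodule.mem_map_of_mem (f := LinearMap.inr A ((Koszul.koszul A l).X (q + 1) : Type u) _) h3
      rw [Submodule.map_smul''] at e1 e2
      have e3 := add_mem (Submodule.smul_mono le_rfl le_top e1) (Submodule.smul_mono le_rfl le_top e2)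
      simpa [a, b] using e3
    have h4 := Submodule.mem_map_of_mem (f := e.symm.toLinearMap) hmem
    rw [Submodule.map_smul'', LinearEquiv.coe_coe, LinearEquiv.symm_apply_apply] at h4
    exact Submodule.smul_mono le_rfl le_top h4

variable (R : Type u) [CommRing R] (B : Type u) [CommRing B] [Algebra A B] [Algebra R B]

/-- If `B` has a free module `N` between `c B` and `B` over `R` and `t` is Koszul-regular in `R`,
then `c` kills the homology of `B ⊗ K(x)` in negative degrees, where `x` and `t` agree in `B`. -/
theorem smul_mem_range_of_factor {l : List A} {t : List R}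
    (hlt : l.map (algebraMap A B) = t.map (algebraMap R B)) (ht : KR t)
    {N : Type u} [AddCommGroup N] [Module R N] [Module.Flat R N] (g : N →ₗ[R] B) (h : B →ₗ[R] N)
    (c : B) (hgh : ∀ b, g (h b) = c * b) (p q r : ℤ) (hp : p + 1 = q) (hr : q + 1 = r)
    (hq : q < 0) (z : B ⊗[A] ((Koszul.koszul A l).X q : Type u))
    (hz : bd B (Koszul.koszul A l) q r z = 0) :
    c • z ∈ LinearMap.range (bd B (Koszul.koszul A l) p q) := by
  let dA := bcKoszul (A := A) (B := B) l
  have dR : BCData B (Koszul.koszul R t) (Koszul.koszul B (l.map (algebraMap A B))) :=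
    hlt.symm ▸ bcKoszul (A := R) (B := B) t
  let z' := (dR.e q).symm (dA.e q z)
  have hz' : bd B (Koszul.koszul R t) q r z' = 0 := by
    apply (dR.e r).injective
    rw [dR.comm q r hr, LinearEquiv.apply_symm_apply, ← dA.comm q r hr]
    rw [show (dd (Koszul.koszul A l) q r).baseChange B z = 0 from hz, map_zero, map_zero]
  let K := Koszul.koszul R t
  have nat : ∀ {X Y : Type u} [AddCommGroup X] [Module R X] [AddCommGroup Y] [Module R Y]
      (φ : X →ₗ[R] Y) (i j : ℤ) (v : X ⊗[R] (K.X i : Type u)),
      φ.rTensor _ ((dd K i j).lTensor X v) = (dd K i j).lTensor Y (φ.rTensor _ v) := by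
    intro X Y _ _ _ _ φ i j v
    induction v with
    | zero => simp
    | add a b ha hb => simp only [map_add, ha, hb]
    | tmul a b => simp
  have hw : (dd K q r).lTensor N (h.rTensor _ z') = 0 := by
    rw [← nat, show (dd K q r).lTensor B z' = 0 from hz', map_zero]
  have hex := Module.Flat.lTensor_exact N
    ((ex_iff_exact K p q r hp hr).1 (ht q hq.ne))
  obtain ⟨v, hv⟩ := (hex _).1 hw
  have hc : g.rTensor _ (h.rTensor _ z') = c • z' := by
    generalize z' = y
    induction y with
    | zero => simp
    | add a b ha hb => simp only [map_add, ha, hb, smul_add]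
    | tmul a b => simp [hgh, TensorProduct.smul_tmul']
  refine ⟨(dA.e p).symm (dR.e p (g.rTensor _ v)), (dA.e q).injective ?_⟩
  have h5 : (dd K p q).baseChange B (g.rTensor _ v) = c • z' := by
    rw [← hc, ← hv, nat]
    rfl
  rw [dA.comm p q hp, LinearEquiv.apply_symm_apply, ← dR.comm p q hp, h5, LinearEquiv.map_smul,
    LinearEquiv.map_smul, LinearEquiv.apply_symm_apply]

end Groth.Agent.LA18
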