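import Groth.Agent.LA18.Coefficient
import Groth.Agent.LA18.KoszulTop
import Groth.Agent.CAlg6.PSEndo
import Groth.Agent.CAlg1.Regular
import Groth.Agent.LC16.SopRegular
import Groth.Agent.AdicC27.Approx
import Groth.Agent.EGA4Alg4.IntegralDim
import Mathlib.RingTheory.MvPowerSeries.Equiv
import Mathlib.RingTheory.MvPowerSeries.NoZeroDivisors
import Mathlib.RingTheory.AdicCompletion.LocalRing

/-!
# Colon killing for complete local domains of prime characteristic
-/

set_option autoImplicit false
set_option maxHeartbeats 800000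

universe u

open CategoryTheory TensorProduct IsLocalRing Groth.Agent.Koszul19

namespace Groth.Agent.LA18

/-- The continuous map out of a power series ring over a coefficient field. -/
theorem exists_powerSeries_hom {k B : Type u} [CommRing k] [CommRing B] (I : Ideal B)
    [IsAdicComplete I B] (σ : k →+* B) {d : ℕ} (y : Fin d → B) (hy : ∀ i, y i ∈ I) :
    ∃ φ : MvPowerSeries (Fin d) k →+* B,
      (∀ a, φ (MvPowerSeries.C a) = σ a) ∧ ∀ i, φ (MvPowerSeries.X i) = y i := by
  let P := MvPolynomial.idealOfVars (Fin d) k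
  let ev : MvPolynomial (Fin d) k →+* B := MvPolynomial.eval₂Hom σ y
  have hP : P ≤ I.comap ev := by
    refine Ideal.span_le.2 ?_
    rintro _ ⟨i, rfl⟩
    simpa [ev] using hy i
  have hPn : ∀ n, P ^ n ≤ (I ^ n).comap ev := fun n =>
    (Ideal.pow_right_mono hP n).trans (Ideal.le_comap_pow ev n)
  let f : (n : ℕ) → MvPowerSeries (Fin d) k →+* B ⧸ I ^ n := fun n =>
    (Ideal.quotientMap (I ^ n) ev (hPn n)).comp
      (MvPowerSeries.truncTotalAlgHom (Fin d) k n).toRingHom
  have hf : ∀ {m n : ℕ} (h : m ≤ n), (Ideal.Quotient.factorPow I h).comp (f n) = f m := by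
    intro m n h
    refine RingHom.ext fun g => ?_
    show Ideal.Quotient.factor (Ideal.pow_le_pow_right h) (Ideal.quotientMap (I ^ n) ev (hPn n)
        (Ideal.Quotient.mk _ (MvPowerSeries.truncTotal n g))) =
      Ideal.quotientMap (I ^ m) ev (hPn m) (Ideal.Quotient.mk _ (MvPowerSeries.truncTotal m g))
    rw [Ideal.quotientMap_mk, Ideal.quotientMap_mk, Ideal.Quotient.factor_mk, Ideal.Quotient.eq,
      ← map_sub]
    exact hPn m (MvPowerSeries.truncTotal_sub_truncTotal_mem_pow_idealOfVars h le_rfl g)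
  let φ := IsAdicComplete.liftRingHom I f hf
  have hcoe : ∀ q : MvPolynomial (Fin d) k, φ (q : MvPowerSeries (Fin d) k) = ev q := by
    intro q
    refine eq_of_sub_eq_zero (IsHausdorff.haus (I := I) inferInstance _ fun n => ?_)
    rw [SModEq.zero, smul_eq_mul, Ideal.mul_top, ← Ideal.Quotient.eq,
      IsAdicComplete.mk_liftRingHom]
    show Ideal.quotientMap (I ^ n) ev (hPn n)
      (MvPowerSeries.truncTotalAlgHom (Fin d) k n (q : MvPowerSeries (Fin d) k)) = _
    rw [show (q : MvPowerSeries (Fin d) k) = algebraMap (MvPolynomial (Fin d) k) _ q from rfl,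
      AlgHom.commutes]
    exact Ideal.quotientMap_mk
  refine ⟨φ, fun a => ?_, fun i => ?_⟩
  · rw [← MvPolynomial.coe_C, hcoe]; simp [ev]
  · rw [← MvPolynomial.coe_X, hcoe]; simp [ev]

theorem maximalIdeal_mvPowerSeries (k : Type u) [Field k] (d : ℕ) :
    maximalIdeal (MvPowerSeries (Fin d) k) = Ideal.span (Set.range MvPowerSeries.X) := by
  refine le_antisymm (fun f hf => ?_) (Ideal.span_le.2 ?_)
  · have h0 : MvPowerSeries.constantCoeff f = 0 := by
      by_contra h
      exact hf (MvPowerSeries.isUnit_iff_constantCoeff.2 (isUnit_iff_ne_zero.2 h))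
    obtain ⟨g, -, rfl⟩ := CAlg6.exists_decomp (N := 0) (CAlg6.ordGE_one_iff.2 h0)
    exact Ideal.sum_mem _ fun i _ => Ideal.mul_mem_right _ _ (Ideal.subset_span ⟨i, rfl⟩)
  · rintro _ ⟨i, rfl⟩ hu
    have := MvPowerSeries.isUnit_iff_constantCoeff.1 hu
    rw [MvPowerSeries.constantCoeff_X] at this
    exact not_isUnit_zero this

variable {B : Type u} [CommRing B] [IsLocalRing B] [IsNoetherianRing B]

theorem exists_finite_span_sup_pow (R : Type u) [CommRing R] [Algebra R B]
    (hres : ∀ b : B, ∃ r : R, b - algebraMap R B r ∈ maximalIdeal B) (n : ℕ) :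
    ∃ s : Set B, s.Finite ∧ (Submodule.span R s ⊔ (maximalIdeal B ^ n).restrictScalars R) = ⊤ := by
  induction n with
  | zero => exact ⟨∅, Set.finite_empty, by simp⟩
  | succ n ih =>
    obtain ⟨s, hs, hst⟩ := ih
    obtain ⟨t, ht⟩ := (IsNoetherian.noetherian (maximalIdeal B ^ n) : (maximalIdeal B ^ n).FG)
    refine ⟨s ∪ t, hs.union t.finite_toSet, top_le_iff.1 (hst.ge.trans ?_)⟩
    rw [Submodule.span_union, sup_assoc]
    refine sup_le_sup_left (fun b hb => ?_) _
    rw [Submodule.restrictScalars_mem, ← ht] at hb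
    suffices h : ∀ x ∈ Submodule.span B (t : Set B), ∀ c : B, c • x ∈
        Submodule.span R (t : Set B) ⊔ (maximalIdeal B ^ (n + 1)).restrictScalars R by
      simpa using h b hb 1
    intro x hx
    induction hx using Submodule.span_induction with
    | mem x hx =>
      intro c
      obtain ⟨r, hr⟩ := hres c
      refine Submodule.mem_sup.2 ⟨r • x, Submodule.smul_mem _ r (Submodule.subset_span hx),
        (c - algebraMap R B r) * x, ?_, ?_⟩
      · rw [Submodule.restrictScalars_mem, pow_succ']
        exact Ideal.mul_mem_mul hr (ht ▸ Submodule.subset_span hx)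
      · rw [Algebra.smul_def, smul_eq_mul]; ring
    | zero => intro c; rw [smul_zero]; exact zero_mem _
    | add x z _ _ h1 h2 => intro c; rw [smul_add]; exact add_mem (h1 c) (h2 c)
    | smul e x _ h1 => intro c; rw [smul_smul]; exact h1 (c * e)



theorem finite_of_coefficient (R : Type u) [CommRing R] [Algebra R B] (I : Ideal R)
    [IsAdicComplete I R] (hI : I.map (algebraMap R B) ≤ maximalIdeal B)
    (hres : ∀ b : B, ∃ r : R, b - algebraMap R B r ∈ maximalIdeal B)
    (hprim : ∃ n : ℕ, maximalIdeal B ^ n ≤ I.map (algebraMap R B)) : Module.Finite R B := by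
  classical
  obtain ⟨n, hn⟩ := hprim
  obtain ⟨s, hs, hst⟩ := exists_finite_span_sup_pow R hres n
  obtain ⟨r, v, hv⟩ : ∃ (r : ℕ) (v : Fin r → B), Set.range v = s := hs.fin_embedding.elim fun r h =>
    h.elim fun v hv => ⟨r, v, hv⟩
  let φ : (Fin r → R) →ₗ[R] B := Fintype.linearCombination R v
  have hφ : LinearMap.range φ ⊔ (I • ⊤ : Submodule R B) = ⊤ := by
    refine top_le_iff.1 (hst.ge.trans (sup_le_sup ?_ ?_))
    · rw [Submodule.span_le, ← hv]
      rintro _ ⟨i, rfl⟩
      exact ⟨Pi.single i 1, by simp [φ]⟩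
    · rw [Ideal.smul_top_eq_map]
      exact fun b hb => hn hb
  have : IsHausdorff I B := ⟨fun b hb => IsHausdorff.haus (I := maximalIdeal B) inferInstance b
    fun j => by
      have h := hb j
      rw [SModEq.zero] at h ⊢
      rw [smul_eq_mul, Ideal.mul_top]
      rw [Ideal.smul_top_eq_map, Submodule.restrictScalars_mem, Ideal.map_pow] at h
      exact Ideal.pow_right_mono hI j h⟩
  refine Module.Finite.of_surjective φ fun b => ?_
  refine AdicC27.mem_range_of_approx (I := I) φ (fun j => ((I ^ j • ⊤ : Submodule R B) : Set B))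
    (fun j => subset_rfl) (fun j y hy => ?_) (by simp [Ideal.map_top])
  have h1 : y ∈ (I ^ j • ⊤ : Submodule R (Fin r → R)).map φ ⊔ (I ^ (j + 1) • ⊤ : Submodule R B) := by
    rw [Submodule.map_smul'', Submodule.map_top, pow_succ, Submodule.mul_smul, ← Submodule.smul_sup,
      hφ]
    exact hy
  obtain ⟨_, ⟨z, hz, rfl⟩, w, hw, rfl⟩ := Submodule.mem_sup.1 h1
  exact ⟨z, hz, by simpa using hw⟩

theorem exists_colon_killer [IsAdicComplete (maximalIdeal B) B] (p : ℕ) [Fact p.Prime] [CharP B p] [IsDomain B] {d : ℕ}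
    (hdim : ringKrullDim B = d) (y : Fin d → B) (hy : ∀ i, y i ∈ maximalIdeal B)
    (hprim : ∃ n : ℕ, maximalIdeal B ^ n ≤ Ideal.span (Set.range y)) :
    ∃ c : B, c ≠ 0 ∧ ∀ (A : Type u) [CommRing A] [Algebra A B] (x : Fin d → A) (e : ℕ), 0 < e →
      (∀ i, algebraMap A B (x i) = y i ^ e) →
      ∀ p q r : ℤ, p + 1 = q → q + 1 = r → q < 0 →
        ∀ z, bd B (Koszul.koszul A (List.ofFn x)) q r z = 0 →
          c • z ∈ LinearMap.range (bd B (Koszul.koszul A (List.ofFn x)) p q) := by
  classical
  obtain ⟨σ, hσ⟩ := exists_coefficient_field B p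
  obtain ⟨φ, hφC, hφX⟩ := exists_powerSeries_hom (maximalIdeal B) σ y hy
  let R := MvPowerSeries (Fin d) (ResidueField B)
  let _ : Algebra R B := φ.toAlgebra
  let I : Ideal R := Ideal.span (Set.range MvPowerSeries.X)
  have hmI : maximalIdeal R = I := maximalIdeal_mvPowerSeries _ d
  have hIB : I.map (algebraMap R B) = Ideal.span (Set.range y) := by
    rw [Ideal.map_span, ← Set.range_comp]
    congr 2
    funext i
    exact hφX i
  have hfin : Module.Finite R B := by
    refine finite_of_coefficient R I ?_ (fun b => ?_) (hIB ▸ hprim)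
    · rw [hIB, Ideal.span_le]; rintro _ ⟨i, rfl⟩; exact hy i
    · refine ⟨MvPowerSeries.C (residue B b), ?_⟩
      rw [show algebraMap R B (MvPowerSeries.C (residue B b)) = σ (residue B b) from hφC _]
      rw [← Ideal.Quotient.eq_zero_iff_mem, map_sub]
      exact sub_eq_zero.2 (hσ _).symm
  have hint : Algebra.IsIntegral R B := Algebra.IsIntegral.of_finite R B
  have hdle : (d : WithBot ℕ∞) ≤ ringKrullDim R :=
    hdim.symm.le.trans (EGA4Alg4.ringKrullDim_le_of_integral R B)
  have : IsRegularLocalRing R := by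
    refine IsRegularLocalRing.of_spanFinrank_maximalIdeal_le R (le_trans ?_ hdle)
    rw [hmI]
    have := Submodule.spanFinrank_span_le_ncard_of_finite (R := R) (M := R)
      (Set.finite_range (MvPowerSeries.X : Fin d → R))
    have h2 : (Set.range (MvPowerSeries.X : Fin d → R)).ncard ≤ d :=
      (Finite.card_range_le _).trans (by simp)
    exact_mod_cast this.trans h2
  have : IsDomain R := NoZeroDivisors.to_isDomain R
  have hdR : ringKrullDim R = d := by
    refine le_antisymm ?_ hdle
    rw [← IsRegularLocalRing.spanFinrank_maximalIdeal (R := R), hmI]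
    have := Submodule.spanFinrank_span_le_ncard_of_finite (R := R) (M := R)
      (Set.finite_range (MvPowerSeries.X : Fin d → R))
    have h2 : (Set.range (MvPowerSeries.X : Fin d → R)).ncard ≤ d :=
      (Finite.card_range_le _).trans (by simp)
    exact_mod_cast this.trans h2
  have hinj : Function.Injective (algebraMap R B) := by
    rw [RingHom.injective_iff_ker_eq_bot]
    by_contra hne
    let P := RingHom.ker (algebraMap R B)
    let _ : Algebra (R ⧸ P) B := (Ideal.Quotient.lift P (algebraMap R B) fun a ha => ha).toAlgebra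
    have : IsScalarTower R (R ⧸ P) B := IsScalarTower.of_algebraMap_eq (R := R) (S := R ⧸ P) (A := B) fun a => rfl
    have : Module.Finite (R ⧸ P) B := Module.Finite.of_restrictScalars_finite R (R ⧸ P) B
    have : Algebra.IsIntegral (R ⧸ P) B := Algebra.IsIntegral.of_finite (R ⧸ P) B
    have h1 := (EGA4Alg4.ringKrullDim_le_of_integral (R ⧸ P) B)
    have h2 := CAlg1.ringKrullDim_quotient_succ_le_of_domain (R := R) hne
    rw [hdim] at h1
    rw [hdR] at h2
    have h3 := (add_le_add h1 (le_refl (1 : WithBot ℕ∞))).trans h2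
    norm_cast at h3
    omega
  -- a free submodule with torsion cokernel
  obtain ⟨g, hg⟩ := (inferInstance : Module.Finite R B).fg_top
  obtain ⟨s, hs, hmax⟩ := exists_maximal_linearIndepOn R (fun i : (g : Set B) => (i : B))
  let Φ : (↥s →₀ R) →ₗ[R] B := Finsupp.linearCombination R (fun i : s => ((i : (g : Set B)) : B))
  have hΦ : Function.Injective Φ := hs.finsuppLinearCombination_injective
  have hrange : ∀ i : (g : Set B), ∃ a : R, a ≠ 0 ∧ a • (i : B) ∈ LinearMap.range Φ := by
    intro i
    by_cases hi : i ∈ s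
    · exact ⟨1, one_ne_zero, Finsupp.single ⟨i, hi⟩ 1, by simp [Φ]⟩
    · obtain ⟨a, ha, ha'⟩ := hmax i hi
      refine ⟨a, ha, ?_⟩
      rw [Finsupp.range_linearCombination]
      rwa [Set.image_eq_range] at ha'
  choose a ha ha' using hrange
  let cR := ∏ i, a i
  have hc0 : cR ≠ 0 := Finset.prod_ne_zero_iff.2 fun i _ => ha i
  have hmem : ∀ b : B, cR • b ∈ LinearMap.range Φ := by
    intro b
    have hb : b ∈ Submodule.span R (g : Set B) := hg ▸ trivial
    induction hb using Submodule.span_induction with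
    | mem x hx =>
      obtain ⟨w, hw⟩ := Finset.dvd_prod_of_mem a (Finset.mem_univ (⟨x, hx⟩ : (g : Set B)))
      rw [show cR = w * a ⟨x, hx⟩ from hw.trans (mul_comm _ _), mul_smul]
      exact Submodule.smul_mem _ w (ha' ⟨x, hx⟩)
    | zero => rw [smul_zero]; exact zero_mem _
    | add x z _ _ h1 h2 => rw [smul_add]; exact add_mem h1 h2
    | smul e x _ h1 => rw [smul_comm]; exact Submodule.smul_mem _ e h1
  let h : B →ₗ[R] (↥s →₀ R) := (LinearEquiv.ofInjective Φ hΦ).symm.toLinearMap.comp
    (LinearMap.codRestrict (LinearMap.range Φ) (LinearMap.lsmul R B cR) hmem)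
  have hh : ∀ b, Φ (h b) = algebraMap R B cR * b := fun b => by
    rw [← Algebra.smul_def]
    exact congrArg Subtype.val ((LinearEquiv.ofInjective Φ hΦ).apply_symm_apply
      ⟨cR • b, hmem b⟩)
  refine ⟨algebraMap R B cR, fun h0 => hc0 (hinj (h0.trans (map_zero _).symm)),
    fun A _ _ x e he hx q₀ q r hp hr hq z hz => ?_⟩
  refine smul_mem_range_of_factor R B (t := List.ofFn fun i => (MvPowerSeries.X i : R) ^ e) ?_ ?_
    Φ h (algebraMap R B cR) hh q₀ q r hp hr hq z hz
  · rw [List.map_ofFn, List.map_ofFn]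
    congr 1
    funext i
    simp only [Function.comp_apply, hx, map_pow]
    rw [show algebraMap R B (MvPowerSeries.X i) = y i from hφX i]
  · refine kR_of_isWeaklyRegular _ ?_
    have hreg := CAlg1.isRegular_params hdR (fun i => (MvPowerSeries.X i : R)) hmI.symm
    refine LC16.isWeaklyRegular_of_le_radical (M := R) _ _ hreg ?_ (by simp) ?_ ?_
    · intro v hv
      obtain ⟨i, rfl⟩ := List.mem_ofFn.1 hv
      rw [hmI]; exact Ideal.subset_span ⟨i, rfl⟩
    · intro v hv
      obtain ⟨i, rfl⟩ := List.mem_ofFn.1 hv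
      exact Ideal.pow_mem_of_mem _ (by rw [hmI]; exact Ideal.subset_span ⟨i, rfl⟩) e he
    · rw [hmI]
      refine Ideal.span_le.2 ?_
      rintro _ ⟨i, rfl⟩
      exact ⟨e, Ideal.mem_sup_right (Ideal.subset_span (List.mem_ofFn.2 ⟨i, rfl⟩))⟩

end Groth.Agent.LA18
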