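import Groth.Agent.LA18.GrKoszul
import Groth.Agent.Cohen12.HilbertSamuel

/-!
# The leading coefficient of the Samuel function is the Koszul Euler characteristic
-/

universe u

open Filter Topology
open scoped Pointwise

namespace Groth.Agent.LA18

open Cohen12.HilbertSamuel (colen colen_split)

/-- Eventually an integral combination of the first `r` binomial coefficients. -/
def NPr (r : ℕ) (h : ℕ → ℤ) : Prop :=
  ∃ (a : ℕ → ℤ) (N : ℕ), ∀ n, N ≤ n → h n = ∑ i ∈ Finset.range r, (n.choose i : ℤ) * a i

theorem NPr.congr {r : ℕ} {h g : ℕ → ℤ} (hh : NPr r h) (N : ℕ) (e : ∀ n, N ≤ n → g n = h n) :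
    NPr r g := by
  obtain ⟨a, M, hM⟩ := hh
  exact ⟨a, max N M, fun n hn => by
    rw [e n ((le_max_left _ _).trans hn), hM n ((le_max_right _ _).trans hn)]⟩

theorem NPr.add {r : ℕ} {h g : ℕ → ℤ} (hh : NPr r h) (hg : NPr r g) :
    NPr r (fun n => h n + g n) := by
  obtain ⟨a, N, hN⟩ := hh
  obtain ⟨b, M, hM⟩ := hg
  refine ⟨fun i => a i + b i, max N M, fun n hn => ?_⟩
  simp only [hN n ((le_max_left _ _).trans hn), hM n ((le_max_right _ _).trans hn), mul_add,
    Finset.sum_add_distrib]

theorem NPr.sub {r : ℕ} {h g : ℕ → ℤ} (hh : NPr r h) (hg : NPr r g) :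
    NPr r (fun n => h n - g n) := by
  obtain ⟨a, N, hN⟩ := hh
  obtain ⟨b, M, hM⟩ := hg
  refine ⟨fun i => a i - b i, max N M, fun n hn => ?_⟩
  simp only [hN n ((le_max_left _ _).trans hn), hM n ((le_max_right _ _).trans hn), mul_sub,
    Finset.sum_sub_distrib]

theorem NPr.choose_mul {r i : ℕ} (hi : i < r) (c : ℤ) : NPr r (fun n => (n.choose i : ℤ) * c) :=
  ⟨fun j => if j = i then c else 0, 0, fun n _ => by
    rw [Finset.sum_eq_single i (fun j _ hj => by simp [hj])
      (fun h => absurd (Finset.mem_range.2 hi) h)]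
    simp⟩

theorem NPr.succ {r : ℕ} {h : ℕ → ℤ} (hh : NPr r h) : NPr r (fun n => h (n + 1)) := by
  obtain ⟨a, N, hN⟩ := hh
  refine ⟨fun i => a i + if i + 1 < r then a (i + 1) else 0, N, fun n hn => ?_⟩
  dsimp only
  rw [hN (n + 1) (by omega)]
  simp only [mul_add, Finset.sum_add_distrib]
  cases r with
  | zero => simp
  | succ r =>
    rw [Finset.sum_range_succ' (fun i => ((n + 1).choose i : ℤ) * a i),
      Finset.sum_range_succ' (fun i => (n.choose i : ℤ) * a i),
      Finset.sum_range_succ (fun i => (n.choose i : ℤ) * if i + 1 < r + 1 then a (i + 1) else 0)]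
    have h1 : ∀ i ∈ Finset.range r, ((n + 1).choose (i + 1) : ℤ) * a (i + 1) =
        (n.choose (i + 1) : ℤ) * a (i + 1) +
          (n.choose i : ℤ) * (if i + 1 < r + 1 then a (i + 1) else 0) := fun i hi => by
      rw [if_pos (by simpa using hi), Nat.choose_succ_succ']
      push_cast
      ring
    rw [Finset.sum_congr rfl h1, Finset.sum_add_distrib]
    simp only [Nat.choose_zero_right, lt_irrefl, if_false, mul_zero, add_zero]
    ring

theorem NPr.of_diff {r : ℕ} {h : ℕ → ℤ} (hd : NPr r (fun n => h (n + 1) - h n)) :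
    NPr (r + 1) h := by
  obtain ⟨a, N, hN⟩ := hd
  let g : ℕ → ℤ := fun n => ∑ i ∈ Finset.range r, (n.choose (i + 1) : ℤ) * a i
  have hconst : ∀ n, N ≤ n → h n - g n = h N - g N := by
    intro n hn
    induction n, hn using Nat.le_induction with
    | base => rfl
    | succ n hn ih =>
      rw [← ih]
      have h1 : g (n + 1) - g n = h (n + 1) - h n := by
        rw [show h (n + 1) - h n = _ from hN n hn]
        simp only [g, Nat.choose_succ_succ', Nat.cast_add, add_mul, Finset.sum_add_distrib]
        ring
      linarith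
  refine ⟨fun i => if i = 0 then h N - g N else a (i - 1), N, fun n hn => ?_⟩
  rw [Finset.sum_range_succ', ← sub_add_cancel (h n) (g n), hconst n hn]
  simp only [Nat.choose_zero_right, if_true, Nat.cast_one, one_mul, Nat.succ_ne_zero, if_false,
    Nat.add_sub_cancel]
  exact add_comm _ _

/-- Eventually a combination of the first `r + 1` binomial coefficients, with top coefficient `c`. -/
def NPt (r : ℕ) (c : ℤ) (h : ℕ → ℤ) : Prop :=
  NPr r fun n => h n - (n.choose r : ℤ) * c

theorem NPt.succ {r : ℕ} {c : ℤ} {h : ℕ → ℤ} (hh : NPt r c h) : NPt r c (fun n => h (n + 1)) := by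
  have h1 := NPr.succ hh
  cases r with
  | zero => exact h1.congr 0 fun n _ => by simp [Nat.choose_zero_right]
  | succ r =>
    exact (h1.add (NPr.choose_mul (Nat.lt_succ_self r) c)).congr 0 fun n _ => by
      rw [Nat.choose_succ_succ']
      push_cast
      ring

theorem NPt.of_diff {r : ℕ} {c : ℤ} {h : ℕ → ℤ} (hd : NPt r c (fun n => h (n + 1) - h n)) :
    NPt (r + 1) c h :=
  NPr.of_diff (hd.congr 0 fun n _ => by
    rw [Nat.choose_succ_succ']
    push_cast
    ring)

theorem NPt.tendsto {r : ℕ} {c : ℤ} {h : ℕ → ℤ} (hh : NPt r c h) :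
    Tendsto (fun n : ℕ => (r.factorial : ℝ) * (h n : ℝ) / (n : ℝ) ^ r) atTop (𝓝 (c : ℝ)) := by
  obtain ⟨a, N, hN⟩ := hh
  have hlow : ∀ i < r, Tendsto (fun n : ℕ => (r.factorial : ℝ) * ((n.choose i : ℝ) / (n : ℝ) ^ r))
      atTop (𝓝 0) := fun i hi => by
    have h0 : Tendsto (fun n : ℕ => (r.factorial : ℝ) * (1 / (n : ℝ))) atTop (𝓝 ((r.factorial : ℝ) * 0)) :=
      (tendsto_const_div_atTop_nhds_zero_nat 1).const_mul _
    rw [mul_zero] at h0
    refine squeeze_zero' (Eventually.of_forall fun n => by positivity) ?_ h0
    filter_upwards [eventually_gt_atTop 0] with n hn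
    refine mul_le_mul_of_nonneg_left ?_ (by positivity)
    have hn' : (0 : ℝ) < n := by exact_mod_cast hn
    rw [div_le_div_iff₀ (by positivity) hn', one_mul]
    have h1 : (n.choose i * n : ℕ) ≤ n ^ r :=
      (Nat.mul_le_mul_right n (Nat.choose_le_pow n i)).trans
        (by rw [← pow_succ]; exact Nat.pow_le_pow_right hn hi)
    exact_mod_cast h1
  have htop : Tendsto (fun n : ℕ => (r.factorial : ℝ) * ((n.choose r : ℝ) / (n : ℝ) ^ r))
      atTop (𝓝 1) := by
    refine (tendsto_choose_div r r).congr' ?_
    filter_upwards [eventually_ge_atTop r] with n hn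
    rw [Nat.add_sub_cancel' hn, mul_div_assoc]
  have hlim : Tendsto (fun n : ℕ => ∑ i ∈ Finset.range r,
      (a i : ℝ) * ((r.factorial : ℝ) * ((n.choose i : ℝ) / (n : ℝ) ^ r)) +
        (c : ℝ) * ((r.factorial : ℝ) * ((n.choose r : ℝ) / (n : ℝ) ^ r))) atTop
      (𝓝 (∑ i ∈ Finset.range r, (a i : ℝ) * 0 + (c : ℝ) * 1)) :=
    (tendsto_finset_sum _ fun i hi => (hlow i (Finset.mem_range.1 hi)).const_mul _).add
      (htop.const_mul _)
  simp only [mul_zero, Finset.sum_const_zero, zero_add, mul_one] at hlim
  refine hlim.congr' ?_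
  filter_upwards [eventually_ge_atTop N] with n hn
  have he : (h n : ℝ) = ∑ i ∈ Finset.range r, (n.choose i : ℝ) * (a i : ℝ) +
      (n.choose r : ℝ) * (c : ℝ) := by
    have := hN n hn
    rw [sub_eq_iff_eq_add] at this
    rw [this]
    push_cast
    ring
  rw [he, mul_add, add_div, Finset.mul_sum, Finset.sum_div]
  congr 1
  · exact Finset.sum_congr rfl fun i _ => by ring
  · ring

variable {A : Type u} [CommRing A] [IsNoetherianRing A]

theorem npr_pair {M : Type u} [AddCommGroup M] [Module A M] [Module.Finite A M] (J : Ideal A)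
    (G : Finset A) (hG : Ideal.span (G : Set A) = J) (S : J.Filtration M) (hS : S.Stable) :
    ∀ (l : List A), (∀ x ∈ l, x ∈ J) → ∀ (L N : J.Filtration M), (∀ n, L.N n ≤ N.N n) →
      N ≤ S → (∀ n, Module.length A (M ⧸ L.N n) ≠ ⊤) →
      (∀ x ∈ G, x ∉ l → ∀ n, ∀ z ∈ N.N n, x • z ∈ L.N (n + 1)) →
      NPr l.length (fun n => colen (L.N n) - colen (N.N n)) := by
  intro l
  induction l with
  | nil =>
    intro _ L N hLN hN _ hkill
    obtain ⟨n₀, hn₀⟩ := hS.of_le hN
    refine ⟨0, n₀ + 1, fun n hn => ?_⟩
    obtain ⟨m, rfl⟩ : ∃ m, n = m + 1 := ⟨n - 1, by omega⟩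
    have h : N.N (m + 1) ≤ L.N (m + 1) := by
      rw [← hn₀ m (by omega)]
      have hJ : J • N.N m ≤ Ideal.span (G : Set A) • N.N m := Submodule.smul_mono_left hG.ge
      refine hJ.trans (Submodule.smul_le.mpr fun a ha z hz => ?_)
      induction ha using Submodule.span_induction with
      | mem b hb => exact hkill b hb List.not_mem_nil m z hz
      | zero => simp
      | add b c _ _ h1 h2 => rw [add_smul]; exact add_mem h1 h2
      | smul r b _ h1 => rw [smul_eq_mul, mul_smul]; exact Submodule.smul_mem _ r h1
    simp only [List.length_nil, Finset.range_zero, Finset.sum_empty, le_antisymm (hLN _) h, sub_self]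
  | cons x l ih =>
    intro hl L N hLN hN hfin hkill
    classical
    have hx : x ∈ J := hl x List.mem_cons_self
    have hxN : ∀ n, ∀ z ∈ N.N n, x • z ∈ N.N (n + 1) := fun n z hz =>
      N.smul_le n (Submodule.smul_mem_smul hx hz)
    let K : J.Filtration M :=
      { N := fun n => N.N n ⊓ (L.N (n + 1)).comap (LinearMap.lsmul A M x)
        mono := fun n => inf_le_inf (N.mono n) (Submodule.comap_mono (L.mono (n + 1)))
        smul_le := fun n => by
          refine Submodule.smul_le.mpr fun a ha z hz =>
            ⟨N.smul_le n (Submodule.smul_mem_smul ha hz.1), ?_⟩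
          show x • a • z ∈ L.N (n + 1 + 1)
          rw [smul_comm]
          exact L.smul_le (n + 1) (Submodule.smul_mem_smul ha hz.2) }
    let N' : J.Filtration M :=
      { N := fun n => N.N (n + 1), mono := fun n => N.mono (n + 1),
        smul_le := fun n => N.smul_le (n + 1) }
    let L' : J.Filtration M :=
      { N := fun n => L.N (n + 1) ⊔ (N.N n).map (LinearMap.lsmul A M x)
        mono := fun n => sup_le_sup (L.mono (n + 1)) (Submodule.map_mono (N.mono n))
        smul_le := fun n => by
          rw [Submodule.smul_sup]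
          refine sup_le_sup (L.smul_le (n + 1)) ?_
          rw [← Submodule.map_smul'']
          exact Submodule.map_mono (N.smul_le n) }
    have hLK : ∀ n, L.N n ≤ K.N n := fun n z hz =>
      ⟨hLN n hz, L.smul_le n (Submodule.smul_mem_smul hx hz)⟩
    have hKfin : ∀ n, Module.length A (M ⧸ K.N n) ≠ ⊤ := fun n =>
      ne_top_of_le_ne_top (hfin n)
        (Module.length_le_of_surjective (Submodule.factor (hLK n)) (Submodule.factor_surjective _))
    have hl' : ∀ y ∈ l, y ∈ J := fun y hy => hl y (List.mem_cons_of_mem _ hy)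
    have hg := ih hl' L K hLK (fun n => inf_le_left.trans (hN n)) hfin fun y hy hyl n z hz => by
      by_cases hyx : y = x
      · subst hyx; exact hz.2
      · exact hkill y hy (by simp [hyx, hyl]) n z hz.1
    have hh := ih hl' L' N'
      (fun n => sup_le (hLN (n + 1)) (Submodule.map_le_iff_le_comap.mpr fun z hz => hxN n z hz))
      (fun n => (N.mono n).trans (hN n))
      (fun n => ne_top_of_le_ne_top (hfin (n + 1))
        (Module.length_le_of_surjective (Submodule.factor le_sup_left)
          (Submodule.factor_surjective _)))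
      fun y hy hyl n z hz => by
        by_cases hyx : y = x
        · subst hyx; exact Submodule.mem_sup_right ⟨z, hz, rfl⟩
        · exact Submodule.mem_sup_left (hkill y hy (by simp [hyx, hyl]) (n + 1) z hz)
    refine NPr.of_diff ((hh.sub hg).congr 0 fun n _ => ?_)
    have key := colen_split (L := L.N (n + 1)) (N := N.N n) (K := K.N n) inf_le_left x
      (fun z hz => ⟨fun h => h.2, fun h => ⟨hz, h⟩⟩) (hfin (n + 1)) (hKfin n)
    show _ = (colen (L'.N n) - colen (N'.N n)) - (colen (L.N n) - colen (K.N n))
    simp only [L', N'] at key ⊢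
    linarith

omit [IsNoetherianRing A] in
theorem length_comap_add {X Y : Type u} [AddCommGroup X] [Module A X] [AddCommGroup Y] [Module A Y]
    (g : X →ₗ[A] Y) (P : Submodule A Y) :
    Module.length A (Y ⧸ P) =
      Module.length A (X ⧸ P.comap g) + Module.length A (Y ⧸ (LinearMap.range g ⊔ P)) :=
  Module.length_eq_add_of_exact ((P.comap g).mapQ P g le_rfl)
    (Submodule.factor le_sup_right)
    (LinearMap.ker_eq_bot.1 (Submodule.ker_liftQ_eq_bot' _ _ (by
      rw [LinearMap.ker_comp, Submodule.ker_mkQ])))
    (Submodule.factor_surjective _)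
    (by
      rw [LinearMap.exact_iff, Submodule.mapQ, Submodule.range_liftQ, LinearMap.range_comp]
      ext y
      obtain ⟨y, rfl⟩ := P.mkQ_surjective y
      rw [LinearMap.mem_ker, Submodule.mkQ_apply, Submodule.factor, Submodule.mapQ_apply,
        LinearMap.id_apply, Submodule.Quotient.mk_eq_zero,
        show (Submodule.Quotient.mk y : Y ⧸ P) = P.mkQ y from rfl, ← Submodule.mem_comap,
        Submodule.comap_map_mkQ, sup_comm P])

omit [IsNoetherianRing A] in
theorem colen_comap_add {X Y : Type u} [AddCommGroup X] [Module A X] [AddCommGroup Y] [Module A Y]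
    (g : X →ₗ[A] Y) (P : Submodule A Y) (h : Module.length A (Y ⧸ P) ≠ ⊤) :
    colen P = colen (P.comap g) + colen (LinearMap.range g ⊔ P) := by
  have e := length_comap_add g P
  simp only [colen]
  rw [e] at h ⊢
  rw [ENat.toNat_add (fun h' => h (by simp [h'])) (fun h' => h (by simp [h']))]
  push_cast
  rfl

omit [IsNoetherianRing A] in
theorem smul_congr_of_annihilator {M : Type u} [AddCommGroup M] [Module A M] {x : A} {l : List A}
    {X : Submodule A M} (h : ∀ m ∈ X, x • m = 0) :
    Ideal.ofList (x :: l) • X = Ideal.ofList l • X := by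
  rw [Ideal.ofList_cons]
  refine le_antisymm ?_ (Submodule.smul_mono_left le_sup_right)
  rw [Submodule.sup_smul]
  refine sup_le (Submodule.smul_le.2 fun a ha m hm => ?_) le_rfl
  obtain ⟨b, rfl⟩ := Ideal.mem_span_singleton'.1 ha
  rw [mul_smul, h m hm, smul_zero]
  exact zero_mem _

/-- The Samuel function of a stable filtration by a system of parameters. -/
theorem npt_samuel : ∀ (l : List A) (M : Type u) [AddCommGroup M] [Module A M] [Module.Finite A M],
    LC17.Good l M → ∀ F : (Ideal.ofList l).Filtration M, F.Stable →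
      (∀ n, Module.length A (M ⧸ F.N n) ≠ ⊤) →
        NPt l.length (LC17.chi l M) (fun n => colen (F.N n))
  | [], M, _, _, _, _, F, hF, _ => by
    obtain ⟨n₀, hn₀⟩ := hF
    refine ⟨0, n₀ + 1, fun n hn => ?_⟩
    obtain ⟨m, rfl⟩ : ∃ m, n = m + 1 := ⟨n - 1, by omega⟩
    have h : F.N (m + 1) = ⊥ := eq_bot_iff.2 <| (hn₀ m (by omega)).ge.trans <|
      Submodule.smul_le.2 fun a ha z _ => by
        have ha0 : a = 0 := by simpa [Ideal.ofList] using ha
        simp [ha0]
    rw [LC17.chi_nil]
    simp only [colen, LC17.lenZ, List.length_nil, Finset.range_zero, Finset.sum_empty,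
      Nat.choose_zero_right, Nat.cast_one, one_mul]
    rw [(Submodule.quotEquivOfEqBot (F.N (m + 1)) h).length_eq, sub_self]
  | x :: l, M, _, _, hfinM, hG, F, hF, hfin => by
    classical
    let μ := LinearMap.lsmul A M x
    let K : Submodule A M := LC17.Ker x M
    let R : Submodule A M := LinearMap.range μ
    have hx : x ∈ Ideal.ofList (x :: l) := by
      rw [Ideal.ofList_cons]; exact Submodule.mem_sup_left (Ideal.mem_span_singleton_self x)
    have hJ' : Ideal.ofList l ≤ Ideal.ofList (x :: l) := by
      rw [Ideal.ofList_cons]; exact le_sup_right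
    -- the cokernel
    let FC : (Ideal.ofList l).Filtration (LC17.Cok x M) :=
      { N := fun n => (F.N n).map R.mkQ
        mono := fun n => Submodule.map_mono (F.mono n)
        smul_le := fun n => by
          rw [← Submodule.map_smul'']
          exact Submodule.map_mono ((Submodule.smul_mono_left hJ').trans (F.smul_le n)) }
    have hkillC : ∀ y : LC17.Cok x M, x • y = 0 := fun y => by
      obtain ⟨m, rfl⟩ := Submodule.Quotient.mk_surjective _ y
      exact (Submodule.Quotient.mk_eq_zero _).2 ⟨m, rfl⟩
    have hFC : FC.Stable := by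
      obtain ⟨n₀, hn₀⟩ := hF
      refine ⟨n₀, fun n hn => ?_⟩
      change Ideal.ofList l • (F.N n).map R.mkQ = (F.N (n + 1)).map R.mkQ
      rw [← hn₀ n hn, Submodule.map_smul'', smul_congr_of_annihilator fun m _ => hkillC m]
    have hC := npt_samuel l (LC17.Cok x M)
      (good_tail_of_smul_eq_zero hG
        (Module.support_subset_of_surjective _ (Submodule.mkQ_surjective _)) hkillC) FC hFC
      (fun n => ne_top_of_le_ne_top (hfin n)
        (Module.length_le_of_surjective ((F.N n).mapQ _ R.mkQ (Submodule.le_comap_map _ _))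
          (fun y => by
            obtain ⟨z, rfl⟩ := Submodule.Quotient.mk_surjective _ y
            obtain ⟨m, rfl⟩ := R.mkQ_surjective z
            exact ⟨Submodule.Quotient.mk m, rfl⟩)))
    -- the kernel
    let GK : (Ideal.ofList (x :: l)).Filtration M := (Ideal.ofList (x :: l)).trivialFiltration K ⊓ F
    have hGK : GK.Stable := hF.inter_left _
    let FK : (Ideal.ofList l).Filtration K :=
      { N := fun n => (F.N n).comap K.subtype
        mono := fun n => Submodule.comap_mono (F.mono n)
        smul_le := fun n => Submodule.smul_le.2 fun a ha z hz =>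
          F.smul_le n (Submodule.smul_mem_smul (hJ' ha) hz) }
    have hFK : FK.Stable := by
      obtain ⟨n₀, hn₀⟩ := hGK
      refine ⟨n₀, fun n hn => Submodule.map_injective_of_injective K.subtype_injective ?_⟩
      change Submodule.map K.subtype (Ideal.ofList l • (F.N n).comap K.subtype) =
        Submodule.map K.subtype ((F.N (n + 1)).comap K.subtype)
      rw [Submodule.map_smul'', Submodule.map_comap_subtype, Submodule.map_comap_subtype]
      have := hn₀ n hn
      change Ideal.ofList (x :: l) • (K ⊓ F.N n) = K ⊓ F.N (n + 1) at this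
      rw [← this, smul_congr_of_annihilator]
      exact fun m hm => LinearMap.mem_ker.1 hm.1
    have hKfin : ∀ n, Module.length A (K ⧸ FK.N n) ≠ ⊤ := fun n =>
      ne_top_of_le_ne_top (hfin n) ((length_comap_add K.subtype (F.N n)).ge.trans' le_self_add)
    have hK := npt_samuel l K
      (good_tail_of_smul_eq_zero (N := K) hG
        (Module.support_subset_of_injective _ (Submodule.subtype_injective _))
        (fun y => Subtype.ext (LinearMap.mem_ker.1 y.2))) FK hFK hKfin
    -- the correction term, on `x • M`
    let π : M →ₗ[A] R := μ.rangeRestrict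
    let LR : (Ideal.ofList (x :: l)).Filtration R :=
      { N := fun n => (F.N n).map π
        mono := fun n => Submodule.map_mono (F.mono n)
        smul_le := fun n => by
          rw [← Submodule.map_smul'']
          exact Submodule.map_mono (F.smul_le n) }
    let NR : (Ideal.ofList (x :: l)).Filtration R :=
      { N := fun n => (F.N (n + 1)).comap R.subtype
        mono := fun n => Submodule.comap_mono (F.mono (n + 1))
        smul_le := fun n => Submodule.smul_le.2 fun a ha z hz =>
          F.smul_le (n + 1) (Submodule.smul_mem_smul ha hz) }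
    let SR : (Ideal.ofList (x :: l)).Filtration R :=
      { N := fun n => (F.N n).comap R.subtype
        mono := fun n => Submodule.comap_mono (F.mono n)
        smul_le := fun n => Submodule.smul_le.2 fun a ha z hz =>
          F.smul_le n (Submodule.smul_mem_smul ha hz) }
    have hSR : SR.Stable := by
      obtain ⟨n₀, hn₀⟩ := (hF.inter_left ((Ideal.ofList (x :: l)).trivialFiltration R))
      refine ⟨n₀, fun n hn => Submodule.map_injective_of_injective R.subtype_injective ?_⟩
      change Submodule.map R.subtype (Ideal.ofList (x :: l) • (F.N n).comap R.subtype) =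
        Submodule.map R.subtype ((F.N (n + 1)).comap R.subtype)
      rw [Submodule.map_smul'', Submodule.map_comap_subtype, Submodule.map_comap_subtype]
      exact hn₀ n hn
    have hRker : ∀ n, (LR.N n).comap π = K ⊔ F.N n := fun n => by
      change ((F.N n).map π).comap π = _
      rw [Submodule.comap_map_eq, LinearMap.ker_rangeRestrict, sup_comm]
    have hRfin : ∀ n, Module.length A (R ⧸ LR.N n) ≠ ⊤ := fun n =>
      ne_top_of_le_ne_top (hfin n) (Module.length_le_of_surjective
        ((F.N n).mapQ (LR.N n) π (Submodule.le_comap_map _ _))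
        (fun y => by
          obtain ⟨z, rfl⟩ := Submodule.Quotient.mk_surjective _ y
          obtain ⟨m, rfl⟩ := μ.surjective_rangeRestrict z
          exact ⟨Submodule.Quotient.mk m, rfl⟩))
    have hv : NPr l.length (fun n => colen (LR.N n) - colen (NR.N n)) :=
      npr_pair (Ideal.ofList (x :: l)) (x :: l).toFinset (by simp [Ideal.ofList, Set.insert_def]) SR hSR l
        (fun y hy => hJ' (Ideal.subset_span hy)) LR NR
        (fun n => by
          rintro _ ⟨m, hm, rfl⟩
          exact F.smul_le n (Submodule.smul_mem_smul hx hm))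
        (fun n => Submodule.comap_mono (F.mono n)) hRfin
        (fun y hy hyl n z hz => by
          have hyx : y = x := by
            simp only [List.mem_toFinset, List.mem_cons] at hy
            exact hy.resolve_right hyl
          subst hyx
          exact ⟨(z : M), hz, rfl⟩)
    -- assemble
    refine NPt.of_diff ?_
    rw [chi_cons_split hG]
    refine ((hC.succ.sub hK).sub hv).congr 0 fun n _ => ?_
    have e1 := colen_comap_add R.subtype (F.N (n + 1)) (hfin (n + 1))
    have e2 := colen_comap_add K.subtype (F.N n) (hfin n)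
    have e3 : colen (LR.N n) = colen (K ⊔ F.N n) := by
      have h := colen_comap_add π (LR.N n) (hRfin n)
      rw [hRker] at h
      have : colen (LinearMap.range π ⊔ LR.N n) = 0 := by
        rw [LinearMap.range_eq_top.2 μ.surjective_rangeRestrict, top_sup_eq]
        simp [colen, Module.length_eq_zero]
      rw [h, this, add_zero]
    have e4 : colen (FC.N (n + 1)) = colen (R ⊔ F.N (n + 1)) := by
      change colen ((F.N (n + 1)).map R.mkQ) = _
      have h : (F.N (n + 1)).map R.mkQ = (R ⊔ F.N (n + 1)).map R.mkQ := by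
        rw [Submodule.map_sup, Submodule.mkQ_map_self, bot_sup_eq]
      rw [h]
      unfold colen
      rw [(Submodule.quotientQuotientEquivQuotient R _ le_sup_left).length_eq]
    rw [Submodule.range_subtype] at e1 e2
    simp only [FK, NR] at *
    linear_combination e1 - e2 + (e3 - e4)

/-- The Samuel multiplicity is the Koszul Euler characteristic. -/
theorem tendsto_samuel {M : Type u} [AddCommGroup M] [Module A M] [Module.Finite A M] {d : ℕ}
    (x : Fin d → A)
    (hfl : IsFiniteLength A (M ⧸ (Ideal.span (Set.range x) • (⊤ : Submodule A M)))) :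
    Tendsto (fun n : ℕ => (d.factorial : ℝ) *
        ((Module.length A (M ⧸ (Ideal.span (Set.range x) ^ n • (⊤ : Submodule A M)))).toNat : ℝ) /
          (n : ℝ) ^ d) atTop (𝓝 (LC17.chi (List.ofFn x) M : ℝ)) := by
  have he : Ideal.ofList (List.ofFn x) = Ideal.span (Set.range x) := LC17.ofList_ofFn x
  have h := npt_samuel (List.ofFn x) M (LC17.good_ofFn hfl)
    ((Ideal.ofList (List.ofFn x)).stableFiltration ⊤) (Ideal.stableFiltration_stable _ _)
    (fun n => Cohen12.HilbertSamuel.length_pow_ne_top _ (by
      rw [he]; exact Module.length_ne_top_iff.2 hfl) n)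
  rw [List.length_ofFn] at h
  refine h.tendsto.congr fun n => ?_
  show _ = (d.factorial : ℝ) * _ / _
  rw [← he]
  simp only [colen, Int.cast_natCast]
  rfl

end Groth.Agent.LA18
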