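import Groth.Agent.LA18.GrDim
import Groth.Agent.LC17.KDim
import Mathlib.RingTheory.Regular.IsSMulRegular
import Mathlib.RingTheory.PowerSeries.WellKnown
import Mathlib.Analysis.SpecificLimits.Basic

/-!
# Koszul Euler characteristics and Hilbert series
-/

universe u

open DirectSum GrLC Filter Topology
open scoped Pointwise

namespace Groth.Agent.LA18

open GrInj18

variable {A : Type u} [CommRing A]

theorem mem_of_smul_eq_zero_of_mem_support {N : Type u} [AddCommGroup N] [Module A N] {f : A}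
    (hf : ∀ x : N, f • x = 0) {p : PrimeSpectrum A} (hp : p ∈ Module.support A N) :
    f ∈ p.asIdeal := by
  obtain ⟨m, hm⟩ := Module.mem_support_iff_exists_annihilator.1 hp
  exact hm ((Submodule.mem_annihilator_span_singleton _ _).2 (hf m))

theorem good_tail_of_smul_eq_zero {N M : Type u} [AddCommGroup N] [Module A N] [AddCommGroup M]
    [Module A M] {f : A} {l : List A} (h : LC17.Good (f :: l) M)
    (hs : Module.support A N ⊆ Module.support A M) (hf : ∀ x : N, f • x = 0) : LC17.Good l N :=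
  fun p hp hl => h p (hs hp) (by
    rw [Ideal.ofList_cons, sup_le_iff, Ideal.span_singleton_le_iff_mem]
    exact ⟨mem_of_smul_eq_zero_of_mem_support hf hp, hl⟩)

theorem quotSMulTop_eq (f : A) (N : Type u) [AddCommGroup N] [Module A N] :
    (f • ⊤ : Submodule A N) = LinearMap.range (LinearMap.lsmul A N f) := by
  ext x
  simp [Submodule.mem_smul_pointwise_iff_exists]

/-- The Euler characteristic for one more element. -/
theorem chi_cons_split [IsNoetherianRing A] {M : Type u} [AddCommGroup M] [Module A M]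
    [Module.Finite A M] {f : A} {l : List A} (h : LC17.Good (f :: l) M) :
    LC17.chi (f :: l) M =
      LC17.chi l (LC17.Cok f M) - LC17.chi l (LC17.Ker f M) := by
  obtain ⟨n, hn⟩ := monotone_stabilizes_iff_noetherian.2 (inferInstance : IsNoetherian A M)
    ⟨fun k : ℕ => LinearMap.ker (LinearMap.lsmul A M (f ^ k)), fun a b hab x hx => by
      obtain ⟨c, rfl⟩ := Nat.exists_eq_add_of_le hab
      simp only [LinearMap.mem_ker, LinearMap.lsmul_apply] at hx ⊢
      rw [pow_add, mul_comm, mul_smul, hx, smul_zero]⟩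
  let T : Submodule A M := LinearMap.ker (LinearMap.lsmul A M (f ^ (n + 1)))
  have hT1 : ∀ x : T, f ^ (n + 1) • x = 0 := fun x => Subtype.ext (LinearMap.mem_ker.1 x.2)
  have hreg : IsSMulRegular (M ⧸ T) f := by
    rw [isSMulRegular_iff_right_eq_zero_of_smul]
    intro y hy
    obtain ⟨x, rfl⟩ := T.mkQ_surjective y
    have hx : f • x ∈ T := (Submodule.Quotient.mk_eq_zero T).1 hy
    refine (Submodule.Quotient.mk_eq_zero T).2 ?_
    have hx' : x ∈ LinearMap.ker (LinearMap.lsmul A M (f ^ (n + 2))) := by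
      have := LinearMap.mem_ker.1 hx
      simp only [LinearMap.mem_ker, LinearMap.lsmul_apply] at this ⊢
      rwa [pow_succ, mul_smul]
    have e1 := hn (n + 1) (by omega)
    have e2 := hn (n + 2) (by omega)
    change x ∈ LinearMap.ker (LinearMap.lsmul A M (f ^ (n + 1)))
    exact (le_of_eq (e2.symm.trans e1)) hx'
  have hsub : Module.support A T ⊆ Module.support A M :=
    Module.support_subset_of_injective T.subtype T.subtype_injective
  have hGT : LC17.Good l T := fun p hp hl => h p (hsub hp) (by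
    rw [Ideal.ofList_cons, sup_le_iff, Ideal.span_singleton_le_iff_mem]
    exact ⟨p.2.mem_of_pow_mem _ (mem_of_smul_eq_zero_of_mem_support hT1 hp), hl⟩)
  have hG1 := h.mono hsub
  -- the characteristic of the torsion vanishes
  have hchiT : LC17.chi (f :: l) T = 0 := by
    have hpow := LC17.chi_pow hG1 (n + 1)
    have hG2 : LC17.Good (f ^ (n + 1) :: l) T := hG1.of_le fun p hp => by
      rw [Ideal.ofList_cons, sup_le_iff, Ideal.span_singleton_le_iff_mem] at hp ⊢
      exact ⟨p.2.mem_of_pow_mem _ hp.1, hp.2⟩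
    rw [LC17.chi_cons_smul_zero hG2 hT1] at hpow
    exact (mul_eq_zero.1 hpow.symm).resolve_left (by exact_mod_cast Nat.succ_ne_zero n)
  rw [LC17.chi_exact (f :: l) T.subtype T.mkQ T.subtype_injective T.mkQ_surjective
    (LinearMap.exact_subtype_mkQ T) h, hchiT, zero_add, LC17.chi_cons_regular f l (M ⧸ T) hreg]
  -- the torsion part
  let μ : T →ₗ[A] T := LinearMap.lsmul A T f
  have e1 := LC17.chi_exact l (LinearMap.ker μ).subtype μ.rangeRestrict Subtype.val_injective
    μ.surjective_rangeRestrict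
    (LinearMap.exact_iff.2 (by rw [LinearMap.ker_rangeRestrict, Submodule.range_subtype])) hGT
  have e2 := LC17.chi_exact l (LinearMap.range μ).subtype (LinearMap.range μ).mkQ
    Subtype.val_injective (Submodule.mkQ_surjective _) (LinearMap.exact_subtype_mkQ _) hGT
  have hker : LC17.chi l (LinearMap.ker μ) = LC17.chi l (LC17.Ker f M) :=
    LC17.chi_congr l
      { toFun := fun x => ⟨((x : T) : M), congrArg Subtype.val (LinearMap.mem_ker.1 x.2)⟩
        invFun := fun x => ⟨⟨(x : M), by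
            have := LinearMap.mem_ker.1 x.2
            simp only [T, LinearMap.mem_ker, LinearMap.lsmul_apply] at this ⊢
            rw [pow_succ, mul_smul, this, smul_zero]⟩, Subtype.ext (LinearMap.mem_ker.1 x.2)⟩
        left_inv := fun _ => rfl
        right_inv := fun _ => rfl
        map_add' := fun _ _ => rfl
        map_smul' := fun _ _ => rfl }
  -- modulo `f`
  have hinj : Function.Injective (QuotSMulTop.map f T.subtype) := by
    have he : Function.Exact (0 : PUnit.{u + 1} →ₗ[A] T) T.subtype := by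
      rw [LinearMap.exact_iff, LinearMap.range_zero]; exact T.ker_subtype
    have := QuotSMulTop.map_first_exact_on_four_term_exact_of_isSMulRegular_last he
      (LinearMap.exact_subtype_mkQ T) hreg
    rw [map_zero, LinearMap.exact_iff, LinearMap.range_zero] at this
    exact LinearMap.ker_eq_bot.1 this
  have e3 := LC17.chi_exact l (QuotSMulTop.map f T.subtype) (QuotSMulTop.map f T.mkQ) hinj
    (QuotSMulTop.map_surjective f T.mkQ_surjective)
    (QuotSMulTop.map_exact f (LinearMap.exact_subtype_mkQ T) T.mkQ_surjective)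
    (good_tail_of_smul_eq_zero h
      (Module.support_subset_of_surjective (Submodule.mkQ (f • ⊤ : Submodule A M))
        (Submodule.mkQ_surjective _))
      (fun x => Module.mem_annihilator.1 (QuotSMulTop.mem_annihilator M f) x))
  have c1 : LC17.chi l (QuotSMulTop f M) = LC17.chi l (LC17.Cok f M) :=
    LC17.chi_congr l (Submodule.quotEquivOfEq _ _ (quotSMulTop_eq f M))
  have c2 : LC17.chi l (QuotSMulTop f T) = LC17.chi l (T ⧸ LinearMap.range μ) :=
    LC17.chi_congr l (Submodule.quotEquivOfEq _ _ (quotSMulTop_eq f T))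
  rw [c1, c2] at e3
  linarith

variable (𝒜 : ℤ → AddSubgroup A) [GradedRing 𝒜] (hA : NonNeg 𝒜)

section Split

variable {W : Type u} [AddCommGroup W] [Module A W] (𝒲 : ℤ → AddSubgroup W)
  [Decomposition 𝒲] [SetLike.GradedSMul 𝒜 𝒲]

theorem isHomogeneous_ker_lsmul {f : A} {e : ℤ} (hf : f ∈ 𝒜 e) :
    (LinearMap.ker (LinearMap.lsmul A W f)).IsHomogeneous 𝒲 :=
  isHomogeneous_of_cmp 𝒲 fun d x hx => by
    have h := congrArg (cmp 𝒲 (d + e)) (LinearMap.mem_ker.1 hx)
    rw [LinearMap.lsmul_apply, cmp_smul_add 𝒜 𝒲 d hf, map_zero] at h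
    exact LinearMap.mem_ker.2 h

theorem isGrHomDeg_lsmul {f : A} {e : ℤ} (hf : f ∈ 𝒜 e) :
    IsGrHomDeg 𝒲 𝒲 (LinearMap.lsmul A W f) e := fun j m hm => by
  rw [add_comm]
  exact smul_mem_add 𝒜 𝒲 hf hm

theorem isHomogeneous_range_lsmul {f : A} {e : ℤ} (hf : f ∈ 𝒜 e) :
    (LinearMap.range (LinearMap.lsmul A W f)).IsHomogeneous 𝒲 := by
  rw [LinearMap.range_eq_map]
  exact isHomogeneous_map _ _ (isGrHomDeg_lsmul 𝒜 𝒲 hf) (isHomogeneous_top _)

theorem hser_split [IsArtinianRing (deg0 𝒜)] [IsNoetherian A W] (hW : NonNeg 𝒲) {f : A} {e : ℕ}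
    (hf : f ∈ 𝒜 (e : ℤ)) :
    (1 - PowerSeries.X ^ e) * hser 𝒜 𝒲 =
      hser 𝒜 (quotPieces 𝒲 (LinearMap.range (LinearMap.lsmul A W f))) -
        PowerSeries.X ^ e * hser 𝒜 (subGr 𝒲 (LinearMap.ker (LinearMap.lsmul A W f))) := by
  let μ := LinearMap.lsmul A W f
  let K := LinearMap.ker μ
  let C := LinearMap.range μ
  let : Decomposition (subGr 𝒲 K) := (gsub 𝒜 𝒲 (isHomogeneous_ker_lsmul 𝒜 𝒲 hf)).dec
  let : Decomposition (quotPieces 𝒲 K) := (gquot 𝒜 𝒲 (isHomogeneous_ker_lsmul 𝒜 𝒲 hf)).dec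
  let : Decomposition (quotPieces 𝒲 C) := (gquot 𝒜 𝒲 (isHomogeneous_range_lsmul 𝒜 𝒲 hf)).dec
  have hK0 : NonNeg (subGr 𝒲 K) := fun i hi => by
    rw [eq_bot_iff]
    intro m hm
    exact Subtype.ext (eq_zero_of_bot (hW i hi) hm)
  have hQ0 : NonNeg (quotPieces 𝒲 K) := fun i hi => by
    rw [eq_bot_iff]
    rintro _ ⟨m, hm, rfl⟩
    simp [eq_zero_of_bot (hW i hi) hm]
  have h1 := hser_exact 𝒜 (subGr 𝒲 K) 𝒲 (quotPieces 𝒲 K) hK0 (e := 0) (f := K.subtype)
    (g := K.mkQ)
    (fun j m hm => show (m : W) ∈ 𝒲 (j + ((0 : ℕ) : ℤ)) by rw [Nat.cast_zero, add_zero]; exact hm)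
    (isGrHom_mkQ 𝒲 K) K.subtype_injective (LinearMap.exact_subtype_mkQ K) K.mkQ_surjective
  let ψ : (W ⧸ K) →ₗ[A] W := K.liftQ μ le_rfl
  have hψ : IsGrHomDeg (quotPieces 𝒲 K) 𝒲 ψ (e : ℤ) := fun j y hy => by
    obtain ⟨m, hm, rfl⟩ := hy
    exact isGrHomDeg_lsmul 𝒜 𝒲 hf j m hm
  have h2 := hser_exact 𝒜 (quotPieces 𝒲 K) 𝒲 (quotPieces 𝒲 C) hQ0 hψ (isGrHom_mkQ 𝒲 C)
    (LinearMap.ker_eq_bot.1 (Submodule.ker_liftQ_eq_bot' _ _ rfl))
    (by rw [LinearMap.exact_iff, Submodule.range_liftQ, Submodule.ker_mkQ])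
    C.mkQ_surjective
  rw [pow_zero, one_mul] at h1
  change (1 - PowerSeries.X ^ e) * hser 𝒜 𝒲 =
    hser 𝒜 (quotPieces 𝒲 C) - PowerSeries.X ^ e * hser 𝒜 (subGr 𝒲 K)
  linear_combination h2 - PowerSeries.X ^ e * h1

end Split

theorem coe_one_sub_X_pow (k : ℕ) :
    ((1 - Polynomial.X ^ k : Polynomial ℤ) : PowerSeries ℤ) = 1 - PowerSeries.X ^ k := by
  simp

include hA in
/-- Koszul: `∏ (1 - X ^ eⱼ) · H_W` is a polynomial with value `χ` at one. -/
theorem exists_koszul_poly [IsArtinianRing (deg0 𝒜)] [IsNoetherianRing A] :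
    ∀ (l : List (A × ℕ)), (∀ p ∈ l, p.1 ∈ 𝒜 (p.2 : ℤ)) → ∀ (W : GMod.{u} 𝒜), NonNeg W.gr →
      Module.Finite A W.carrier → LC17.Good (l.map Prod.fst) W.carrier →
        ∃ G : Polynomial ℤ, (G : PowerSeries ℤ) =
            (l.map fun p => 1 - PowerSeries.X ^ p.2).prod * hser 𝒜 W.gr ∧
          G.eval 1 = LC17.chi (l.map Prod.fst) W.carrier
  | [], _, W, hW, hfin, hG => by
    have hne : Module.length A W.carrier ≠ ⊤ :=
      LC17.length_ne_top_of_support fun p hp => hG p hp (by simp)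
    have : IsArtinian A W.carrier :=
      (isFiniteLength_iff_isNoetherian_isArtinian.1 (Module.length_ne_top_iff.1 hne)).2
    obtain ⟨B, hB⟩ := exists_bound_of_isArtinian 𝒜 W.gr hA
    obtain ⟨q, hq, hq1⟩ := exists_poly_of_bounded 𝒜 W.gr B hB
    refine ⟨q, by simp [hq], ?_⟩
    rw [List.map_nil, LC17.chi_nil, hq1, LC17.lenZ, length_eq_sum_pieces 𝒜 hA B W hW hB,
      Finset.sum_range, Finset.sum_range, toNat_sum _ ?_, Nat.cast_sum]
    · rfl
    · intro b
      refine ne_top_of_le_ne_top hne ?_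
      rw [length_eq_sum_pieces 𝒜 hA B W hW hB, Finset.sum_range]
      exact Finset.single_le_sum (f := fun b : Fin B =>
        Module.length (deg0 𝒜) (GrLC.comp 𝒜 W.gr ((b : ℕ) : ℤ))) (fun _ _ => bot_le)
        (Finset.mem_univ b)
  | p :: l, hl, W, hW, hfin, hG => by
    have hf : p.1 ∈ 𝒜 (p.2 : ℤ) := hl p List.mem_cons_self
    let K := gsub 𝒜 W.gr (isHomogeneous_ker_lsmul 𝒜 W.gr hf)
    let C := gquot 𝒜 W.gr (isHomogeneous_range_lsmul 𝒜 W.gr hf)
    have hK0 : NonNeg K.gr := fun i hi => by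
      rw [eq_bot_iff]
      intro m hm
      exact Subtype.ext (eq_zero_of_bot (hW i hi) hm)
    have hC0 : NonNeg C.gr := fun i hi => by
      rw [eq_bot_iff]
      rintro _ ⟨m, hm, rfl⟩
      simp [eq_zero_of_bot (hW i hi) hm]
    have hl' : ∀ q ∈ l, q.1 ∈ 𝒜 (q.2 : ℤ) := fun q hq => hl q (List.mem_cons_of_mem _ hq)
    rw [List.map_cons] at hG
    obtain ⟨GK, hGK, hGK1⟩ := exists_koszul_poly l hl' K hK0
      (inferInstanceAs (Module.Finite A (LC17.Ker p.1 W.carrier)))
      (good_tail_of_smul_eq_zero (N := LC17.Ker p.1 W.carrier) hG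
        (Module.support_subset_of_injective _ (Submodule.subtype_injective _))
        (fun x => Subtype.ext (LinearMap.mem_ker.1 x.2)))
    obtain ⟨GC, hGC, hGC1⟩ := exists_koszul_poly l hl' C hC0
      (inferInstanceAs (Module.Finite A (LC17.Cok p.1 W.carrier)))
      (good_tail_of_smul_eq_zero (N := LC17.Cok p.1 W.carrier) hG
        (Module.support_subset_of_surjective _ (Submodule.mkQ_surjective _))
        (fun x => by
          obtain ⟨m, rfl⟩ := Submodule.Quotient.mk_surjective _ x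
          exact (Submodule.Quotient.mk_eq_zero _).2 ⟨m, rfl⟩))
    refine ⟨GC - Polynomial.X ^ p.2 * GK, ?_, ?_⟩
    · rw [Polynomial.coe_sub, Polynomial.coe_mul, Polynomial.coe_pow, Polynomial.coe_X, hGC, hGK,
        List.map_cons, List.prod_cons]
      change _ - PowerSeries.X ^ p.2 * ((l.map _).prod * hser 𝒜 (subGr W.gr _)) = _
      have h := hser_split 𝒜 W.gr hW hf
      linear_combination (-(l.map fun p => (1 : PowerSeries ℤ) - PowerSeries.X ^ p.2).prod) * h
    · rw [List.map_cons, chi_cons_split hG]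
      simp only [Polynomial.eval_sub, Polynomial.eval_mul, Polynomial.eval_pow, Polynomial.eval_X,
        one_pow, one_mul, hGC1, hGK1]
      rfl

include hA in
theorem exists_degOne_poly [IsArtinianRing (deg0 𝒜)] [IsNoetherianRing A]
    (hgen : ∀ i : ℤ, 0 < i → (𝒜 i : Set A) ⊆ Ideal.span (𝒜 1 : Set A)) :
    ∀ (l : List A), (∀ x ∈ l, x ∈ 𝒜 1) → ∀ (W : GMod.{u} 𝒜), NonNeg W.gr →
      Module.Finite A W.carrier → irr 𝒜 hA ≤ Ideal.ofList l ⊔ Module.annihilator A W.carrier →
        ∃ F : Polynomial ℤ,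
          (F : PowerSeries ℤ) = (1 - PowerSeries.X) ^ l.length * hser 𝒜 W.gr
  | [], _, W, hW, hfin, hk => by
    rw [Ideal.ofList_nil, bot_sup_eq] at hk
    obtain ⟨B, hB⟩ := gam_bounded 𝒜 hA W.gr hgen
    obtain ⟨q, hq, -⟩ := exists_poly_of_bounded 𝒜 W.gr B fun i hi => by
      rw [eq_bot_iff]
      exact fun m hm => hB i hi m
        ⟨1, fun r hr => Module.mem_annihilator.1 (hk (by rwa [pow_one] at hr)) m⟩ hm
    exact ⟨q, by simp [hq]⟩
  | x :: l, hl, W, hW, hfin, hk => by
    have hx : x ∈ 𝒜 ((1 : ℕ) : ℤ) := by simpa using hl x List.mem_cons_self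
    let K := gsub 𝒜 W.gr (isHomogeneous_ker_lsmul 𝒜 W.gr hx)
    let C := gquot 𝒜 W.gr (isHomogeneous_range_lsmul 𝒜 W.gr hx)
    have hK0 : NonNeg K.gr := fun i hi => by
      rw [eq_bot_iff]
      intro m hm
      exact Subtype.ext (eq_zero_of_bot (hW i hi) hm)
    have hC0 : NonNeg C.gr := fun i hi => by
      rw [eq_bot_iff]
      rintro _ ⟨m, hm, rfl⟩
      simp [eq_zero_of_bot (hW i hi) hm]
    have hl' : ∀ q ∈ l, q ∈ 𝒜 1 := fun q hq => hl q (List.mem_cons_of_mem _ hq)
    have hk' : ∀ (N : Type u) [AddCommGroup N] [Module A N], (∀ y : N, x • y = 0) →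
        Module.annihilator A W.carrier ≤ Module.annihilator A N →
        irr 𝒜 hA ≤ Ideal.ofList l ⊔ Module.annihilator A N := fun N _ _ h1 h2 => by
      refine hk.trans (sup_le ?_ (h2.trans le_sup_right))
      rw [Ideal.ofList_cons]
      refine sup_le ?_ le_sup_left
      rw [Ideal.span_singleton_le_iff_mem]
      exact Submodule.mem_sup_right (Module.mem_annihilator.2 h1)
    obtain ⟨FK, hFK⟩ := exists_degOne_poly hgen l hl' K hK0
      (inferInstanceAs (Module.Finite A (LC17.Ker x W.carrier)))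
      (hk' (LC17.Ker x W.carrier) (fun y => Subtype.ext (LinearMap.mem_ker.1 y.2))
        (LinearMap.annihilator_le_of_injective _ (Submodule.subtype_injective _)))
    obtain ⟨FC', hFC⟩ := exists_degOne_poly hgen l hl' C hC0
      (inferInstanceAs (Module.Finite A (LC17.Cok x W.carrier)))
      (hk' (LC17.Cok x W.carrier)
        (fun y => by
          obtain ⟨m, rfl⟩ := Submodule.Quotient.mk_surjective _ y
          exact (Submodule.Quotient.mk_eq_zero _).2 ⟨m, rfl⟩)
        (LinearMap.annihilator_le_of_surjective _ (Submodule.mkQ_surjective _)))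
    refine ⟨FC' - Polynomial.X * FK, ?_⟩
    rw [Polynomial.coe_sub, Polynomial.coe_mul, Polynomial.coe_X, hFC, hFK, List.length_cons,
      pow_succ]
    change _ - PowerSeries.X * (_ * hser 𝒜 (subGr W.gr _)) = _
    have h := hser_split 𝒜 W.gr hW hx
    rw [pow_one] at h
    linear_combination (-(1 - PowerSeries.X : PowerSeries ℤ) ^ l.length) * h

theorem tendsto_choose_div (d i : ℕ) :
    Tendsto (fun n : ℕ => (d.factorial : ℝ) * ((d + (n - i)).choose d : ℝ) / (n : ℝ) ^ d)
      atTop (𝓝 1) := by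
  have hlim : ∀ c : ℝ, Tendsto (fun n : ℕ => (((n : ℝ) + c) / n) ^ d) atTop (𝓝 1) := fun c => by
    have : Tendsto (fun n : ℕ => 1 + c / (n : ℝ)) atTop (𝓝 (1 + 0)) :=
      tendsto_const_nhds.add (tendsto_const_div_atTop_nhds_zero_nat c)
    rw [add_zero] at this
    have h2 := this.pow d
    rw [one_pow] at h2
    refine h2.congr' ?_
    filter_upwards [eventually_gt_atTop 0] with n hn
    have : (n : ℝ) ≠ 0 := by positivity
    field_simp
  refine tendsto_of_tendsto_of_tendsto_of_le_of_le' (hlim (-(i : ℝ))) (hlim (d : ℝ)) ?_ ?_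
  · filter_upwards [eventually_gt_atTop i] with n hn
    rw [div_pow]
    refine div_le_div_of_nonneg_right ?_ (by positivity)
    have h := Nat.pow_sub_le_descFactorial (d + (n - i)) d
    rw [Nat.descFactorial_eq_factorial_mul_choose] at h
    have h2 : (n - i) ^ d ≤ d.factorial * (d + (n - i)).choose d :=
      (Nat.pow_le_pow_left (by omega) d).trans h
    calc ((n : ℝ) + -(i : ℝ)) ^ d = (((n - i : ℕ) : ℝ)) ^ d := by
          rw [Nat.cast_sub hn.le]; ring
      _ ≤ _ := by exact_mod_cast h2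
  · filter_upwards [eventually_gt_atTop i] with n hn
    rw [div_pow]
    refine div_le_div_of_nonneg_right ?_ (by positivity)
    have h := Nat.descFactorial_le_pow (d + (n - i)) d
    rw [Nat.descFactorial_eq_factorial_mul_choose] at h
    have h2 : d.factorial * (d + (n - i)).choose d ≤ (n + d) ^ d :=
      h.trans (Nat.pow_le_pow_left (by omega) d)
    exact_mod_cast h2

/-- Cumulative coefficients of a series with `(1 - X) ^ d · H` polynomial. -/
theorem tendsto_cumulative {h : ℕ → ℤ} {d : ℕ} {q : Polynomial ℤ}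
    (hq : (1 - PowerSeries.X) ^ d * PowerSeries.mk h = (q : PowerSeries ℤ)) :
    Tendsto (fun n : ℕ => (d.factorial : ℝ) * ((∑ k ∈ Finset.range (n + 1), h k : ℤ) : ℝ) /
      (n : ℝ) ^ d) atTop (𝓝 ((q.eval 1 : ℤ) : ℝ)) := by
  let S : ℕ → ℤ := fun n => ∑ k ∈ Finset.range (n + 1), h k
  have hS : (1 - PowerSeries.X) * PowerSeries.mk S = PowerSeries.mk h := by
    ext n
    rw [sub_mul, one_mul, map_sub]
    rcases n with _ | n
    · simp [S, PowerSeries.coeff_zero_X_mul]
    · rw [PowerSeries.coeff_succ_X_mul]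
      simp only [PowerSeries.coeff_mk, S, Finset.sum_range_succ _ (n + 1), add_sub_cancel_left]
  have hSq : (1 - PowerSeries.X) ^ (d + 1) * PowerSeries.mk S = (q : PowerSeries ℤ) := by
    rw [pow_succ, mul_assoc, hS, hq]
  have hinv : PowerSeries.mk S =
      (q : PowerSeries ℤ) * (PowerSeries.mk fun n => ((d + n).choose d : ℤ)) := by
    rw [← hSq, mul_comm ((1 - PowerSeries.X) ^ (d + 1)), mul_assoc]
    have := (PowerSeries.invOneSubPow ℤ (d + 1)).inv_val
    rw [PowerSeries.invOneSubPow_inv_eq_one_sub_pow,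
      PowerSeries.invOneSubPow_val_succ_eq_mk_add_choose] at this
    rw [this, mul_one]
  have hcoef : ∀ n, q.natDegree ≤ n →
      S n = ∑ i ∈ Finset.range (q.natDegree + 1), q.coeff i * ((d + (n - i)).choose d : ℤ) := by
    intro n hn
    have := congrArg (PowerSeries.coeff n) hinv
    rw [PowerSeries.coeff_mk, PowerSeries.coeff_mul,
      Finset.Nat.sum_antidiagonal_eq_sum_range_succ_mk] at this
    rw [this]
    simp only [Polynomial.coeff_coe, PowerSeries.coeff_mk]
    symm
    refine Finset.sum_subset (Finset.range_subset_range.2 (by omega)) fun i _ hi => ?_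
    rw [Polynomial.coeff_eq_zero_of_natDegree_lt (by simpa using hi), zero_mul]
  have hlim : Tendsto (fun n : ℕ => ∑ i ∈ Finset.range (q.natDegree + 1), (q.coeff i : ℝ) *
      ((d.factorial : ℝ) * ((d + (n - i)).choose d : ℝ) / (n : ℝ) ^ d)) atTop
      (𝓝 (∑ i ∈ Finset.range (q.natDegree + 1), (q.coeff i : ℝ) * 1)) :=
    tendsto_finset_sum _ fun i _ => (tendsto_choose_div d i).const_mul _
  have he : ((q.eval 1 : ℤ) : ℝ) =
      ∑ i ∈ Finset.range (q.natDegree + 1), (q.coeff i : ℝ) * 1 := by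
    rw [Polynomial.eval_eq_sum_range]
    push_cast
    simp
  rw [he]
  refine hlim.congr' ?_
  filter_upwards [eventually_ge_atTop q.natDegree] with n hn
  change _ = (d.factorial : ℝ) * ((S n : ℤ) : ℝ) / (n : ℝ) ^ d
  rw [hcoef n hn, Int.cast_sum, Finset.mul_sum, Finset.sum_div]
  refine Finset.sum_congr rfl fun i _ => ?_
  push_cast
  ring

end Groth.Agent.LA18
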