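import Groth.Agent.LC17.KBound
import Groth.Agent.LC17.KDim
import Groth.Agent.LA18.KoszulTop

/-!
# Polynomial growth of colengths of ideals of powers of generators
-/

set_option autoImplicit false

universe u

open CategoryTheory TensorProduct Groth.Agent.Koszul19

namespace Groth.Agent.LA18

variable {A : Type u} [CommRing A]

theorem length_quot_le_hlen (l : List A) (M : Type u) [AddCommGroup M] [Module A M] :
    Module.length A (M ⧸ Ideal.ofList l • (⊤ : Submodule A M)) ≤ LC17.hlen l M 0 := by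
  rw [LC17.hlen, LC17.length_homology (LC17.KM l M) (-1) 0 1 (by norm_num) (by norm_num)]
  let e : ((LC17.KM l M).X 0 : Type u) →ₗ[A] M :=
    (((eps l).rTensor M).trans (TensorProduct.lid A M)).toLinearMap.comp
      (LC17.tX (Koszul.koszul A l) (ModuleCat.of A M) 0).toLinearMap
  let e' := ((Ideal.ofList l • (⊤ : Submodule A M)).mkQ.comp e).comp
    (LinearMap.ker (dd (LC17.KM l M) 0 1)).subtype
  refine Module.length_le_of_surjective (Submodule.liftQ _ e' ?_) fun y => ?_
  · rintro ⟨z, hz⟩ ⟨w, hw⟩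
    refine (Submodule.Quotient.mk_eq_zero _).2 ?_
    show e z ∈ _
    rw [show z = dd (LC17.KM l M) (-1) 0 w from hw.symm]
    show (((eps l).rTensor M).trans (TensorProduct.lid A M))
      (LC17.tX (Koszul.koszul A l) (ModuleCat.of A M) 0 (dd (LC17.KM l M) (-1) 0 w)) ∈ _
    rw [LC17.tX_d]
    generalize LC17.tX (Koszul.koszul A l) (ModuleCat.of A M) (-1) w = t
    induction t using TensorProduct.induction_on with
    | zero => simp
    | add a b ha hb => rw [map_add, map_add]; exact add_mem ha hb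
    | tmul k m =>
      rw [LinearMap.rTensor_tmul, LinearEquiv.trans_apply, LinearEquiv.rTensor_tmul,
        TensorProduct.lid_tmul]
      refine Submodule.smul_mem_smul ?_ trivial
      rw [← range_eps_d]
      exact ⟨k, rfl⟩
  · obtain ⟨m, rfl⟩ := Submodule.Quotient.mk_surjective _ y
    have : Subsingleton ((LC17.KM l M).X 1 : Type u) := LC17.subsingleton_KM_X l M 1 (Or.inl one_pos)
    refine ⟨Submodule.Quotient.mk ⟨(LC17.tX (Koszul.koszul A l) (ModuleCat.of A M) 0).symm
      ((eps l).symm 1 ⊗ₜ m), Subsingleton.elim _ _⟩, ?_⟩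
    show Submodule.Quotient.mk (((eps l).rTensor M).trans (TensorProduct.lid A M)
      (LC17.tX (Koszul.koszul A l) (ModuleCat.of A M) 0
        ((LC17.tX (Koszul.koszul A l) (ModuleCat.of A M) 0).symm ((eps l).symm 1 ⊗ₜ m)))) = _
    simp

theorem length_quot_map_powers_le [IsNoetherianRing A] {k : ℕ} (g : Fin k → A) (M : Type u)
    [AddCommGroup M] [Module A M] [Module.Finite A M]
    (hfl : IsFiniteLength A (M ⧸ Ideal.span (Set.range g) • (⊤ : Submodule A M))) (d : ℕ)
    (hd : Module.supportDim A M ≤ (d : WithBot ℕ∞)) :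
    ∃ C : ℕ, ∀ n : ℕ, 0 < n →
      Module.length A (M ⧸ Ideal.span (Set.range fun i => g i ^ n) • (⊤ : Submodule A M)) ≤
        ((C * n ^ d : ℕ) : ℕ∞) := by
  obtain ⟨C, hC⟩ := LC17.exists_bound_aux k (List.ofFn g) (List.length_ofFn ..) M
    (LC17.good_ofFn hfl) d hd
  refine ⟨C, fun n hn => ?_⟩
  have h := hC n hn 0
  rw [List.map_ofFn, Nat.cast_zero, neg_zero] at h
  refine (le_trans ?_ (h.trans (Nat.cast_le.2 (Nat.mul_le_mul le_rfl
    (Nat.pow_le_pow_right hn (min_le_right _ _))))))
  rw [← LC17.ofList_ofFn]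
  exact length_quot_le_hlen _ M

end Groth.Agent.LA18
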