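import Groth.Prelude.Def_CAlg
import Groth.Agent.LC16.SopRegular
import Mathlib.Algebra.Homology.ShortComplex.ModuleCat
import Mathlib.LinearAlgebra.Basis.Basic

/-!
# Free complexes with cohomology of finite length over Cohen-Macaulay local rings
-/

set_option autoImplicit false

universe u

open IsLocalRing RingTheory.Sequence

namespace Groth.Agent.LA18

variable {R : Type u} [CommRing R] {M : Type u} [AddCommGroup M] [Module R M]

theorem mem_smul_top_of_smul_mem [Module.Free R M] (J : Ideal R) {x : R}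
    (hx : ∀ r, x * r ∈ J → r ∈ J) {m : M} (hm : x • m ∈ J • (⊤ : Submodule R M)) :
    m ∈ J • (⊤ : Submodule R M) := by
  classical
  let b := Module.Free.chooseBasis R M
  have key : ∀ v ∈ J • (⊤ : Submodule R M), ∀ i, b.repr v i ∈ J := by
    intro v hv i
    induction hv using Submodule.smul_induction_on' with
    | smul a ha w _ => rw [map_smul, Finsupp.smul_apply, smul_eq_mul]; exact Ideal.mul_mem_right _ _ ha
    | add a _ c _ ha hc => rw [map_add, Finsupp.add_apply]; exact add_mem ha hc
  rw [← b.linearCombination_repr m, Finsupp.linearCombination_apply]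
  refine Submodule.sum_mem _ fun i _ => Submodule.smul_mem_smul (hx _ ?_) trivial
  have := key _ hm i
  rwa [map_smul, Finsupp.smul_apply, smul_eq_mul] at this

variable [IsLocalRing R] [IsNoetherianRing R]

set_option linter.unusedSectionVars false

theorem exists_pow_smul_eq_zero {H : Type u} [AddCommGroup H] [Module R H]
    (hfl : IsFiniteLength R H) : ∃ N : ℕ, ∀ a ∈ maximalIdeal R, ∀ h : H, a ^ N • h = 0 := by
  induction hfl with
  | of_subsingleton => exact ⟨0, fun a _ h => Subsingleton.elim _ _⟩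
  | of_simple_quotient hN ih =>
    rename_i M' _ _ N' hsimple
    obtain ⟨n, hn⟩ := ih
    obtain ⟨I, hI, ⟨e⟩⟩ := isSimpleModule_iff_quot_maximal.1 hsimple
    obtain rfl := IsLocalRing.eq_maximalIdeal hI
    refine ⟨n + 1, fun a ha h => ?_⟩
    have h1 : a • h ∈ N' := by
      rw [← Submodule.Quotient.mk_eq_zero, Submodule.Quotient.mk_smul]
      apply e.injective
      rw [map_smul, map_zero]
      obtain ⟨r, hr⟩ := Ideal.Quotient.mk_surjective (e (Submodule.Quotient.mk h))
      rw [← hr]
      exact Ideal.Quotient.eq_zero_iff_mem.2 (Ideal.mul_mem_right _ _ ha)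
    rw [pow_succ, mul_smul]
    exact congrArg Subtype.val (hn a ha ⟨_, h1⟩)

set_option linter.overlappingInstances false in
theorem cycle_eq_boundary [LocCoh.IsCohenMacaulayLocalRing R] (g : ℕ) (hg : ringKrullDim R = g)
    (K : ℕ → Type u) [∀ i, AddCommGroup (K i)] [∀ i, Module R (K i)] [∀ i, Module.Free R (K i)]
    (d : ∀ i, K i →ₗ[R] K (i + 1)) (hdd : ∀ i v, d (i + 1) (d i v) = 0) (N : ℕ)
    (hN : ∀ a ∈ maximalIdeal R, ∀ i, ∀ z : K (i + 1), d (i + 1) z = 0 → i + 1 < g →
      a ^ N • z ∈ LinearMap.range (d i))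
    (hN0 : ∀ a ∈ maximalIdeal R, ∀ z : K 0, d 0 z = 0 → a ^ N • z = 0) :
    (∀ z : K 0, d 0 z = 0 → 0 < g → z = 0) ∧
      ∀ i, ∀ z : K (i + 1), d (i + 1) z = 0 → i + 1 < g → z ∈ LinearMap.range (d i) := by
  classical
  obtain ⟨rs, hlen, hmem, hreg⟩ := LC16.exists_isRegular_of_CM hg
  let E : ℕ := 2 ^ g * (N + 1)
  have hE : 0 < E := by positivity
  let xs := rs.map (· ^ E)
  have hxs : xs.length = g := by simp [xs, hlen]
  have hxw : IsWeaklyRegular R xs := by
    refine LC16.isWeaklyRegular_of_le_radical (M := R) rs xs hreg hmem (by simp [xs]) ?_ ?_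
    · intro b hb
      obtain ⟨r, hr, rfl⟩ := List.mem_map.1 hb
      exact Ideal.pow_mem_of_mem _ (hmem r hr) E hE
    · have h1 : (Ideal.ofList rs).radical = maximalIdeal R := by
        refine le_antisymm ((maximalIdeal.isMaximal R).isPrime.radical_le_iff.2 (Ideal.span_le.2 hmem)) ?_
        rw [Ideal.radical_eq_sInf]
        refine le_sInf fun p hp => ?_
        obtain ⟨hle, hp⟩ := hp
        by_contra hne
        have : p < maximalIdeal R := lt_of_le_of_ne (IsLocalRing.le_maximalIdeal hp.ne_top)
          (fun h => hne (h ▸ le_rfl))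
        have h2 : ringKrullDim (R ⧸ Ideal.ofList rs) = 0 := by
          have h3 := ringKrullDim_add_length_eq_ringKrullDim_of_isRegular _ hreg
          rw [hlen, hg] at h3
          cases hc : ringKrullDim (R ⧸ Ideal.ofList rs) with
          | bot => rw [hc] at h3; simp at h3
          | coe v =>
            rw [hc] at h3
            have h4 : v + (g : ℕ∞) = (g : ℕ∞) := WithBot.coe_inj.mp h3
            induction v with
            | top => simp at h4
            | coe m =>
              have h5 : m + g = g := by exact_mod_cast h4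
              rw [show m = 0 by omega]; rfl
        have : Ring.KrullDimLE 0 (R ⧸ Ideal.ofList rs) := by
          rw [Ring.krullDimLE_iff]; exact h2.le
        have hpp : (p.map (Ideal.Quotient.mk (Ideal.ofList rs))).IsPrime :=
          Ideal.map_isPrime_of_surjective Ideal.Quotient.mk_surjective (by simpa using hle)
        have hmax := hpp.isMaximal'
        have := Ideal.comap_isMaximal_of_surjective (Ideal.Quotient.mk (Ideal.ofList rs))
          Ideal.Quotient.mk_surjective (K := p.map (Ideal.Quotient.mk (Ideal.ofList rs)))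
        rw [Ideal.comap_map_of_surjective' _ Ideal.Quotient.mk_surjective, Ideal.mk_ker,
          sup_eq_left.2 hle] at this
        exact hne (IsLocalRing.eq_maximalIdeal this).ge
      refine h1.ge.trans (Ideal.radical_le_radical_iff.2 (Ideal.span_le.2 fun r hr => ?_))
      exact ⟨E, Ideal.mem_sup_right (Ideal.subset_span (List.mem_map.2 ⟨r, hr, rfl⟩))⟩
  let J : ℕ → Ideal R := fun j => Ideal.ofList (xs.take j)
  have hJ0 : J 0 = ⊥ := by simp [J]
  have hregj : ∀ j, (h : j < g) → ∀ r, xs[j]'(hxs ▸ h) * r ∈ J j → r ∈ J j := by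
    intro j hj r hr
    have h1 := (isWeaklyRegular_iff R xs).1 hxw j (hxs ▸ hj)
    have : (Submodule.Quotient.mk r : R ⧸ (Ideal.ofList (xs.take j) • ⊤ : Submodule R R)) = 0 := by
      apply h1
      simp only [smul_zero]
      rw [← Submodule.Quotient.mk_smul, Submodule.Quotient.mk_eq_zero]
      simpa using hr
    simpa using (Submodule.Quotient.mk_eq_zero _).1 this
  have hJsucc : ∀ j, (h : j < g) → J (j + 1) = J j ⊔ Ideal.span {xs[j]'(hxs ▸ h)} := by
    intro j hj
    show Ideal.ofList (xs.take (j + 1)) = _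
    rw [List.take_succ_eq_append_getElem (hxs ▸ hj), Ideal.ofList_append, Ideal.ofList_singleton]
  have split : ∀ j, (h : j < g) → ∀ i, ∀ v ∈ J (j + 1) • (⊤ : Submodule R (K i)),
      ∃ w : K i, v - xs[j]'(hxs ▸ h) • w ∈ J j • (⊤ : Submodule R (K i)) := by
    intro j hj i v hv
    rw [hJsucc j hj, Submodule.sup_smul, Submodule.mem_sup] at hv
    obtain ⟨a, ha, b, hb, rfl⟩ := hv
    rw [Submodule.ideal_span_singleton_smul] at hb
    obtain ⟨w, -, rfl⟩ := (Submodule.mem_smul_pointwise_iff_exists _ _ _).1 hb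
    exact ⟨w, by simpa using ha⟩
  have dmem : ∀ (I : Ideal R) i (v : K i), v ∈ I • (⊤ : Submodule R (K i)) →
      d i v ∈ I • (⊤ : Submodule R (K (i + 1))) := fun I i v hv => by
    have := Submodule.mem_map_of_mem (f := d i) hv
    rw [Submodule.map_smul''] at this
    exact Submodule.smul_mono le_rfl le_top this
  have lift : ∀ j, (h : j < g) → ∀ i, ∀ (v : K i), d i v ∈ J (j + 1) • (⊤ : Submodule R (K (i + 1))) →
      ∀ a : R, (∀ w : K (i + 1), d (i + 1) w ∈ J j • (⊤ : Submodule R (K (i + 2))) →
        ∃ u, a • w - d i u ∈ J j • (⊤ : Submodule R (K (i + 1)))) →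
      ∃ u, d i (a • v - xs[j]'(hxs ▸ h) • u) ∈ J j • (⊤ : Submodule R (K (i + 1))) := by
    intro j hj i v hv a ha
    obtain ⟨w, hw⟩ := split j hj _ _ hv
    have hw' : d (i + 1) w ∈ J j • (⊤ : Submodule R (K (i + 2))) := by
      refine mem_smul_top_of_smul_mem _ (hregj j hj) ?_
      have := dmem _ _ _ hw
      rw [map_sub, hdd, zero_sub, map_smul] at this
      exact neg_mem_iff.1 this
    obtain ⟨u, hu⟩ := ha w hw'
    refine ⟨u, ?_⟩
    rw [map_sub, map_smul, map_smul]
    have : a • d i v - xs[j]'(hxs ▸ hj) • d i u =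
        a • (d i v - xs[j]'(hxs ▸ hj) • w) + xs[j]'(hxs ▸ hj) • (a • w - d i u) := by
      rw [smul_sub, smul_sub, smul_comm a (xs[j]'(hxs ▸ hj)) w]; abel
    rw [this]
    exact add_mem (Submodule.smul_mem _ _ hw) (Submodule.smul_mem _ _ hu)
  -- cohomology modulo `J j` is killed
  have kill : ∀ j, j ≤ g → ∀ a ∈ maximalIdeal R,
      (∀ z : K 0, j + 0 < g → d 0 z ∈ J j • (⊤ : Submodule R (K 1)) →
        a ^ (2 ^ j * N) • z ∈ J j • (⊤ : Submodule R (K 0))) ∧
      ∀ i, ∀ z : K (i + 1), j + (i + 1) < g → d (i + 1) z ∈ J j • (⊤ : Submodule R (K (i + 2))) →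
        ∃ u, a ^ (2 ^ j * N) • z - d i u ∈ J j • (⊤ : Submodule R (K (i + 1))) := by
    intro j
    induction j with
    | zero =>
      intro _ a ha
      simp only [hJ0, Submodule.bot_smul, Submodule.mem_bot, pow_zero, one_mul]
      refine ⟨fun z _ hz => hN0 a ha z hz, fun i z hi hz => ?_⟩
      obtain ⟨u, hu⟩ := hN a ha i z hz (by omega)
      exact ⟨u, by rw [hu, sub_self]⟩
    | succ j ih =>
      intro hj a ha
      obtain ⟨ih0, ih1⟩ := ih (by omega) a ha
      have hle : J j ≤ J (j + 1) := by rw [hJsucc j (by omega)]; exact le_sup_left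
      have hx : ∀ i (u : K i), xs[j]'(hxs ▸ (by omega : j < g)) • u ∈ J (j + 1) • (⊤ : Submodule R (K i)) :=
        fun i u => Submodule.smul_mem_smul (by
          rw [hJsucc j (by omega)]; exact Ideal.mem_sup_right (Ideal.mem_span_singleton_self _)) trivial
      set e := a ^ (2 ^ j * N) with he
      have hpow : a ^ (2 ^ (j + 1) * N) = e * e := by rw [he, ← pow_add]; congr 1; ring
      rw [hpow]
      constructor
      · intro z hlt hz
        obtain ⟨u, hu⟩ := lift j (by omega) 0 z hz e (fun w hw => ih1 0 w (by omega) hw)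
        have h1 := ih0 _ (by omega) hu
        have : (e * e) • z = e • (e • z - xs[j]'(hxs ▸ (by omega : j < g)) • u) +
            e • (xs[j]'(hxs ▸ (by omega : j < g)) • u) := by
          rw [← smul_add, sub_add_cancel, mul_smul]
        rw [this]
        exact add_mem (Submodule.smul_mono hle le_rfl h1) (Submodule.smul_mem _ _ (hx 0 u))
      · intro i z hlt hz
        obtain ⟨u, hu⟩ := lift j (by omega) (i + 1) z hz e (fun w hw => ih1 (i + 1) w (by omega) hw)
        obtain ⟨v, hv⟩ := ih1 i _ (by omega) hu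
        refine ⟨v, ?_⟩
        have : (e * e) • z - d i v =
            (e • (e • z - xs[j]'(hxs ▸ (by omega : j < g)) • u) - d i v) +
            e • (xs[j]'(hxs ▸ (by omega : j < g)) • u) := by
          rw [mul_smul, smul_sub]; abel
        rw [this]
        exact add_mem (Submodule.smul_mono hle le_rfl hv) (Submodule.smul_mem _ _ (hx (i + 1) u))
  -- descending induction
  have main : ∀ m j, j + m = g →
      (∀ z : K 0, j + 0 < g → d 0 z ∈ J j • (⊤ : Submodule R (K 1)) →
        z ∈ J j • (⊤ : Submodule R (K 0))) ∧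
      ∀ i, ∀ z : K (i + 1), j + (i + 1) < g → d (i + 1) z ∈ J j • (⊤ : Submodule R (K (i + 2))) →
        ∃ u, z - d i u ∈ J j • (⊤ : Submodule R (K (i + 1))) := by
    intro m
    induction m with
    | zero => exact fun j hj => ⟨fun z h => absurd h (by omega), fun i z h => absurd h (by omega)⟩
    | succ m ih =>
      intro j hj
      obtain ⟨hnext0, hnext1⟩ := ih (j + 1) (by omega)
      have hjg : j < g := by omega
      obtain ⟨r, hr, hxr⟩ : ∃ r ∈ maximalIdeal R, xs[j]'(hxs ▸ hjg) = r ^ E :=
        ⟨rs[j]'(hlen ▸ hjg), hmem _ (List.getElem_mem _), by simp [xs]⟩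
      obtain ⟨c, hc⟩ : ∃ c, E = c + 2 ^ j * N := by
        refine ⟨E - 2 ^ j * N, (Nat.sub_add_cancel ?_).symm⟩
        exact Nat.mul_le_mul (Nat.pow_le_pow_right two_pos hjg.le) N.le_succ
      obtain ⟨hk0, hk1⟩ := kill j hjg.le r hr
      have hx : ∀ i (u : K i), xs[j]'(hxs ▸ hjg) • u ∈ J (j + 1) • (⊤ : Submodule R (K i)) :=
        fun i u => Submodule.smul_mem_smul (by
          rw [hJsucc j hjg]; exact Ideal.mem_sup_right (Ideal.mem_span_singleton_self _)) trivial
      have hle : J j ≤ J (j + 1) := by rw [hJsucc j hjg]; exact le_sup_left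
      constructor
      · intro z hlt hz
        refine mem_smul_top_of_smul_mem _ (hregj j hjg) ?_
        rw [hxr, hc, pow_add, mul_smul]
        exact Submodule.smul_mem _ _ (hk0 z hlt hz)
      · intro i z hlt hz
        obtain ⟨u, hu⟩ := hk1 i z hlt hz
        -- `x z` is `d (r^c u)` modulo `J j`
        have hxz : xs[j]'(hxs ▸ hjg) • z - d i (r ^ c • u) ∈ J j • (⊤ : Submodule R (K (i + 1))) := by
          rw [hxr, hc, pow_add, mul_smul, map_smul, ← smul_sub]
          exact Submodule.smul_mem _ _ hu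
        have hcyc : d i (r ^ c • u) ∈ J (j + 1) • (⊤ : Submodule R (K (i + 1))) := by
          have := sub_mem (hx (i + 1) z) (Submodule.smul_mono hle le_rfl hxz)
          simpa using this
        rcases i with _ | i
        · obtain ⟨s, hs⟩ := split j hjg _ _ (hnext0 _ (by omega) hcyc)
          refine ⟨s, mem_smul_top_of_smul_mem _ (hregj j hjg) ?_⟩
          have := add_mem hxz (dmem _ _ _ hs)
          rw [map_sub, map_smul (d 0) (xs[j]'(hxs ▸ hjg))] at this
          rw [smul_sub]
          convert this using 1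
          abel
        · obtain ⟨v, hv⟩ := hnext1 i _ (by omega) hcyc
          obtain ⟨s, hs⟩ := split j hjg _ _ hv
          refine ⟨s, mem_smul_top_of_smul_mem _ (hregj j hjg) ?_⟩
          have := add_mem hxz (dmem _ _ _ hs)
          rw [map_sub, map_sub, hdd, sub_zero, map_smul (d (i + 1)) (xs[j]'(hxs ▸ hjg))] at this
          rw [smul_sub]
          convert this using 1
          abel
  obtain ⟨m0, m1⟩ := main g 0 (zero_add g)
  simp only [hJ0, Submodule.bot_smul, Submodule.mem_bot, zero_add, sub_eq_zero] at m0 m1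
  exact ⟨fun z hz h => m0 z h hz, fun i z hz h => (m1 i z h hz).imp fun u hu => hu.symm⟩

end Groth.Agent.LA18
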