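import Groth.Agent.LA18.GrIrr
import Groth.Agent.EGA4Alg4.IntegralDim
import Mathlib.RingTheory.KrullDimension.Regular
import Mathlib.RingTheory.KrullDimension.Polynomial
import Mathlib.RingTheory.Adjoin.FG
import Mathlib.RingTheory.Polynomial.Basic
import Mathlib.RingTheory.PowerSeries.Basic

/-!
# Hilbert series and dimension
-/

universe u

open DirectSum GrLC

namespace Groth.Agent.LA18

open GrInj18

variable {A : Type u} [CommRing A] (𝒜 : ℤ → AddSubgroup A) [GradedRing 𝒜] (hA : NonNeg 𝒜)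
  (hgen : ∀ i : ℤ, 0 < i → (𝒜 i : Set A) ⊆ Ideal.span (𝒜 1 : Set A))

/-- An element of a vanishing piece vanishes. -/
theorem eq_zero_of_bot {Y : Type u} [AddCommGroup Y] {S : AddSubgroup Y} (h : S = ⊥) {y : Y}
    (hy : y ∈ S) : y = 0 :=
  (AddSubgroup.mem_bot).1 (h ▸ hy)

include hA in
/-- A graded module which is finite modulo `d` homogeneous elements of positive degree has
dimension at most `d`. -/
theorem supportDim_le_of_bounded [IsArtinianRing (deg0 𝒜)] [IsNoetherianRing A]
    {W : Type u} [AddCommGroup W] [Module A W] (𝒲 : ℤ → AddSubgroup W) [Decomposition 𝒲]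
    [SetLike.GradedSMul 𝒜 𝒲] (hW : NonNeg 𝒲) [Module.Finite A W] {d : ℕ} (x : Fin d → A)
    (e : Fin d → ℕ) (he : ∀ k, 0 < e k) (hx : ∀ k, x k ∈ 𝒜 (e k : ℤ)) (B : ℕ)
    (hB : ∀ i : ℤ, (B : ℤ) ≤ i → ∀ w ∈ 𝒲 i,
      w ∈ Ideal.span (Set.range x) • (⊤ : Submodule A W)) :
    Module.supportDim A W ≤ d := by
  let R₀ := deg0 𝒜
  let S := Algebra.adjoin R₀ (Set.range x)
  have hgens : ∀ i : ℤ, ∃ s : Finset W,
      (∀ w ∈ s, w ∈ 𝒲 i) ∧ (𝒲 i : Set W) ⊆ Submodule.span S (s : Set W) := by
    intro i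
    classical
    have := isNoetherian_comp 𝒜 𝒲 i
    obtain ⟨t, ht⟩ := IsNoetherian.noetherian (⊤ : Submodule R₀ (GrLC.comp 𝒜 𝒲 i))
    refine ⟨t.image Subtype.val, fun w hw => ?_, fun w hw => ?_⟩
    · obtain ⟨y, -, rfl⟩ := Finset.mem_image.1 hw
      exact y.2
    · have h : (⟨w, hw⟩ : GrLC.comp 𝒜 𝒲 i) ∈ Submodule.span R₀ (t : Set _) := ht ▸ trivial
      have h' := Submodule.mem_map_of_mem (f := (GrLC.comp 𝒜 𝒲 i).subtype) h
      rw [Submodule.map_span] at h'
      rw [Finset.coe_image]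
      exact Submodule.span_le_restrictScalars R₀ S _ h'
  classical
  choose s hs hsp using hgens
  let G : Finset W := (Finset.range B).biUnion fun n => s (n : ℤ)
  let L : Submodule S W := Submodule.span S (G : Set W)
  have hxS : ∀ k, x k ∈ S := fun k => Algebra.subset_adjoin ⟨k, rfl⟩
  have key : ∀ n : ℕ, ∀ w ∈ 𝒲 (n : ℤ), w ∈ L := by
    intro n
    induction n using Nat.strong_induction_on with
    | h n ih =>
      intro w hw
      by_cases hn : n < B
      · refine Submodule.span_mono ?_ (hsp (n : ℤ) hw)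
        exact Finset.coe_subset.2
          (Finset.subset_biUnion_of_mem (fun m : ℕ => s (m : ℤ)) (Finset.mem_range.2 hn))
      have hmem := hB n (by exact_mod_cast not_lt.1 hn) w hw
      suffices ∀ z ∈ Ideal.span (Set.range x) • (⊤ : Submodule A W), cmp 𝒲 (n : ℤ) z ∈ L by
        simpa [cmp_of_mem 𝒲 hw] using this w hmem
      intro z hz
      refine Submodule.smul_induction_on hz (fun a ha v _ => ?_)
        (fun y z hy hz => by rw [map_add]; exact add_mem hy hz)
      · show cmp 𝒲 (n : ℤ) (a • v) ∈ L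
        induction ha using Submodule.span_induction generalizing v with
        | mem a ha =>
          obtain ⟨k, rfl⟩ := ha
          rw [cmp_smul_homog_left 𝒜 𝒲 _ (hx k)]
          refine L.smul_mem (⟨x k, hxS k⟩ : S) ?_
          rcases le_or_gt (e k) n with hle | hlt
          · rw [← Nat.cast_sub hle]
            exact ih _ (by have := he k; omega) _ (cmp_mem 𝒲 _ v)
          · rw [eq_zero_of_bot (hW ((n : ℤ) - e k) (by omega)) (cmp_mem 𝒲 ((n : ℤ) - e k) v)]
            exact zero_mem _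
        | zero => simp
        | add a b _ _ ha hb => rw [add_smul, map_add]; exact add_mem (ha v trivial) (hb v trivial)
        | smul c a _ ih' => rw [smul_eq_mul, mul_comm, mul_smul]; exact ih' _ trivial
  have htop : L = ⊤ := Submodule.eq_top_iff'.2 fun w => by
    obtain ⟨t, ht⟩ := exists_sum_cmp 𝒲 w
    rw [← ht]
    refine sum_mem fun i _ => ?_
    rcases lt_or_ge i 0 with hi | hi
    · rw [eq_zero_of_bot (hW i hi) (cmp_mem 𝒲 i w)]; exact zero_mem _
    · lift i to ℕ using hi
      exact key i _ (cmp_mem 𝒲 _ w)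
  have hfin : Module.Finite S W := ⟨⟨G, htop⟩⟩
  rw [← EGA4Alg4.supportDim_eq_of_finite_restrictScalars S A W]
  refine (Module.supportDim_le_ringKrullDim S W).trans ?_
  let f : MvPolynomial (Fin d) R₀ →ₐ[R₀] A := MvPolynomial.aeval x
  have hS : S = f.range := (Algebra.adjoin_range_eq_range_aeval R₀ x)
  refine (ringKrullDim_le_of_surjective
    (((Subalgebra.equivOfEq _ _ hS).symm.toAlgHom.comp f.rangeRestrict).toRingHom) ?_).trans ?_
  · exact (Subalgebra.equivOfEq _ _ hS).symm.surjective.comp f.rangeRestrict_surjective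
  · rw [MvPolynomial.ringKrullDim_of_isNoetherianRing]
    have h0 : ringKrullDim R₀ ≤ 0 :=
      (Ring.krullDimLE_iff (n := 0)).1 (inferInstance : Ring.KrullDimLE 0 R₀)
    refine (add_le_add h0 le_rfl).trans ?_
    simp

omit hA in
/-- The sum of the first pieces of a bounded module as a polynomial. -/
theorem exists_poly_of_bounded {W : Type u} [AddCommGroup W] [Module A W]
    (𝒲 : ℤ → AddSubgroup W) [SetLike.GradedSMul 𝒜 𝒲] (B : ℕ)
    (hB : ∀ i : ℤ, (B : ℤ) ≤ i → 𝒲 i = ⊥) :
    ∃ q : Polynomial ℤ, (q : PowerSeries ℤ) = hser 𝒜 𝒲 ∧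
      q.eval 1 = ∑ n ∈ Finset.range B, (plen 𝒜 𝒲 (n : ℤ) : ℤ) := by
  refine ⟨∑ n ∈ Finset.range B, Polynomial.monomial n (plen 𝒜 𝒲 (n : ℤ) : ℤ), ?_, ?_⟩
  · ext n
    rw [Polynomial.coeff_coe, coeff_hser, Polynomial.finsetSum_coeff]
    simp only [Polynomial.coeff_monomial, Finset.sum_ite_eq', Finset.mem_range]
    split_ifs with hn
    · rfl
    · rw [plen_eq_zero_of_bot 𝒜 𝒲 (hB _ (by exact_mod_cast not_lt.1 hn)), Nat.cast_zero]
  · simp [Polynomial.eval_finsetSum]

/-- The conclusion of the Hilbert–Serre theorem used below. -/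
def HasHilbert (W : GMod.{u} 𝒜) : Prop :=
  ∃ d : ℕ, Module.supportDim A W.carrier = d ∧
    (∃ (x : Fin d → A) (e : Fin d → ℕ) (B : ℕ), (∀ k, 0 < e k) ∧ (∀ k, x k ∈ 𝒜 (e k : ℤ)) ∧
      ∀ i : ℤ, (B : ℤ) ≤ i → ∀ w ∈ W.gr i,
        w ∈ Ideal.span (Set.range x) • (⊤ : Submodule A W.carrier)) ∧
    ∃ P q : Polynomial ℤ, 0 < P.eval 1 ∧ 0 < q.eval 1 ∧
      (P : PowerSeries ℤ) * (1 - PowerSeries.X) ^ d * hser 𝒜 W.gr = (q : PowerSeries ℤ)

include hA hgen in
theorem exists_hilbert [IsArtinianRing (deg0 𝒜)] [IsNoetherianRing A] (W : GMod.{u} 𝒜)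
    (hW : NonNeg W.gr) [Module.Finite A W.carrier] [Nontrivial W.carrier] : HasHilbert 𝒜 W := by
  classical
  suffices ∀ (J : Ideal A) (W : GMod.{u} 𝒜), NonNeg W.gr → Module.Finite A W.carrier →
      Nontrivial W.carrier → Module.annihilator A W.carrier = J → HasHilbert 𝒜 W from
    this _ W hW inferInstance inferInstance rfl
  intro J
  induction J using IsNoetherian.induction with
  | hgt J ih =>
    intro W hW hfin hnt hann
    let Γ : Submodule A W.carrier := gam (irr 𝒜 hA) W.carrier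
    have hΓ : Γ.IsHomogeneous W.gr := isHomogeneous_gam 𝒜 hA W.gr
    obtain ⟨BΓ, hBΓ⟩ := gam_bounded 𝒜 hA W.gr hgen
    let : Decomposition (subGr W.gr Γ) := (gsub 𝒜 W.gr hΓ).dec
    let : Decomposition (quotPieces W.gr Γ) := (gquot 𝒜 W.gr hΓ).dec
    let W' := gquot 𝒜 W.gr hΓ
    have hΓB : ∀ i : ℤ, (BΓ : ℤ) ≤ i → subGr W.gr Γ i = ⊥ := fun i hi => by
      rw [eq_bot_iff]
      exact fun m hm => Subtype.ext (hBΓ i hi (m : W.carrier) m.2 hm)
    obtain ⟨G, hG, hG1⟩ := exists_poly_of_bounded 𝒜 (subGr W.gr Γ) BΓ hΓB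
    have hΓ0 : NonNeg (subGr W.gr Γ) := fun i hi => by
      rw [eq_bot_iff]
      intro m hm
      exact Subtype.ext (eq_zero_of_bot (hW i hi) hm)
    have hW'0 : NonNeg (quotPieces W.gr Γ) := fun i hi => by
      rw [eq_bot_iff]
      rintro _ ⟨m, hm, rfl⟩
      simp [eq_zero_of_bot (hW i hi) hm]
    have hsplit : hser 𝒜 W.gr = (G : PowerSeries ℤ) + hser 𝒜 (quotPieces W.gr Γ) := by
      rw [hG]
      simpa using hser_exact 𝒜 (subGr W.gr Γ) W.gr (quotPieces W.gr Γ) hΓ0 (e := 0)
        (f := Γ.subtype) (g := Γ.mkQ) (by simpa [isGrHomDeg_zero_iff] using isGrHom_subtype W.gr Γ)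
        (isGrHom_mkQ W.gr Γ) Γ.subtype_injective (LinearMap.exact_subtype_mkQ Γ) Γ.mkQ_surjective
    rcases subsingleton_or_nontrivial (W.carrier ⧸ Γ) with hsub | hnt'
    · have hW'ser : hser 𝒜 (quotPieces W.gr Γ) = 0 := by
        ext n
        rw [coeff_hser, plen_eq_zero_of_bot 𝒜 _ ?_]
        · simp
        · rw [eq_bot_iff]; exact fun m _ => Subsingleton.elim m 0
      have hWB : ∀ i : ℤ, (BΓ : ℤ) ≤ i → W.gr i = ⊥ := fun i hi => by
        rw [eq_bot_iff]
        exact fun m hm => hBΓ i hi m ((Submodule.Quotient.mk_eq_zero Γ).1 (Subsingleton.elim _ _)) hm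
      obtain ⟨q, hq, hq1⟩ := exists_poly_of_bounded 𝒜 W.gr BΓ hWB
      refine ⟨0, le_antisymm (supportDim_le_of_bounded 𝒜 hA W.gr hW Fin.elim0 Fin.elim0
        (fun k => k.elim0) (fun k => k.elim0) BΓ fun i hi w hw => ?_) ?_,
        ⟨Fin.elim0, Fin.elim0, BΓ, fun k => k.elim0, fun k => k.elim0, fun i hi w hw => ?_⟩,
        1, q, by simp, ?_, by simp [hq]⟩
      · rw [eq_zero_of_bot (hWB i hi) hw]; exact zero_mem _
      · have h := Module.supportDim_ne_bot_of_nontrivial A W.carrier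
        cases hd : Module.supportDim A W.carrier with
        | bot => exact absurd hd h
        | coe v => simp
      · rw [eq_zero_of_bot (hWB i hi) hw]; exact zero_mem _
      · rw [hq1]
        obtain ⟨m, hm⟩ := exists_ne (0 : W.carrier)
        obtain ⟨i, hi⟩ : ∃ i, cmp W.gr i m ≠ 0 := by
          by_contra! h
          exact hm (eq_zero_of_cmp W.gr h)
        have hne : W.gr i ≠ ⊥ := fun h => hi ((AddSubgroup.mem_bot).1 (h ▸ cmp_mem W.gr i m))
        have hi0 : 0 ≤ i := not_lt.1 fun h => hne (hW i h)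
        lift i to ℕ using hi0
        have hiB : i < BΓ := not_le.1 fun h => hne (hWB i (by exact_mod_cast h))
        refine Finset.sum_pos' (fun n _ => by positivity) ⟨i, Finset.mem_range.2 hiB, ?_⟩
        exact_mod_cast Nat.pos_of_ne_zero fun h => hne ((plen_eq_zero_iff 𝒜 W.gr).1 h)
    have hnt'' : Nontrivial W'.carrier := hnt'
    have : Module.Finite A W'.carrier := inferInstanceAs (Module.Finite A (W.carrier ⧸ Γ))
    have hass : (associatedPrimes A (W.carrier ⧸ Γ)).Finite := associatedPrimes.finite A _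
    obtain ⟨e₀, x₀, he₀, hx₀, hx₀ass⟩ := exists_homog_notMem 𝒜 hA hass.toFinset fun p hp => by
      rw [Set.Finite.mem_toFinset] at hp
      refine ⟨hp.isPrime, fun hle => ?_⟩
      obtain ⟨-, g, hg⟩ := (isAssociatedPrime_iff_exists_injective_linearMap p (W.carrier ⧸ Γ)).1 hp
      obtain ⟨m, hm⟩ := Γ.mkQ_surjective (g 1)
      obtain ⟨N, hN⟩ := exists_pow_kills_gam 𝒜 hA (X := W.carrier)
      have hbm : ∀ b ∈ irr 𝒜 hA, b • m ∈ Γ := fun b hb => by
        rw [← Submodule.Quotient.mk_eq_zero]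
        change Γ.mkQ (b • m) = 0
        rw [map_smul, hm, ← map_smul]
        refine (congrArg g ?_).trans (map_zero g)
        exact Ideal.Quotient.eq_zero_iff_mem.2 (Ideal.mul_mem_right 1 _ (hle hb))
      have hmΓ : m ∈ Γ := ⟨N + 1, fun r hr => by
        rw [pow_succ] at hr
        refine Submodule.mul_induction_on hr (fun a ha b hb => ?_) fun a b ha hb => ?_
        · rw [mul_smul]; exact hN _ (hbm b hb) a ha
        · rw [add_smul, ha, hb, add_zero]⟩
      have h1 : g 1 = 0 := by rw [← hm]; exact (Submodule.Quotient.mk_eq_zero Γ).2 hmΓ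
      exact hp.isPrime.ne_top ((Ideal.eq_top_iff_one p).2
        (Ideal.Quotient.eq_zero_iff_mem.1 (hg (h1.trans (map_zero g).symm))))
    have hreg : IsSMulRegular (W.carrier ⧸ Γ) x₀ := by
      by_contra h
      obtain ⟨y, hy0, hy⟩ : ∃ y : W.carrier ⧸ Γ, y ≠ 0 ∧ x₀ • y = 0 := by
        simp only [isSMulRegular_iff_right_eq_zero_of_smul, not_forall] at h
        obtain ⟨y, h1, h2⟩ := h
        exact ⟨y, h2, h1⟩
      have : x₀ ∈ ⋃ p ∈ associatedPrimes A (W.carrier ⧸ Γ), (p : Set A) := by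
        rw [biUnion_associatedPrimes_eq_zero_divisors]
        exact ⟨y, hy0, hy⟩
      simp only [Set.mem_iUnion] at this
      obtain ⟨p, hp, hxp⟩ := this
      exact hx₀ass p ((Set.Finite.mem_toFinset hass).2 hp) hxp
    let f : (W.carrier ⧸ Γ) →ₗ[A] (W.carrier ⧸ Γ) := LinearMap.lsmul A _ x₀
    have hf : IsGrHomDeg (quotPieces W.gr Γ) (quotPieces W.gr Γ) f (e₀ : ℤ) := fun j m hm => by
      rw [add_comm]
      exact smul_mem_add 𝒜 (quotPieces W.gr Γ) hx₀ hm
    have hC : (LinearMap.range f).IsHomogeneous (quotPieces W.gr Γ) := by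
      rw [LinearMap.range_eq_map]
      exact isHomogeneous_map _ _ hf (isHomogeneous_top _)
    let W'' := gquot 𝒜 (quotPieces W.gr Γ) hC
    let : Decomposition (quotPieces (quotPieces W.gr Γ) (LinearMap.range f)) := W''.dec
    have hW''0 : NonNeg W''.gr := fun i hi => by
      rw [eq_bot_iff]
      rintro _ ⟨m, hm, rfl⟩
      simp [eq_zero_of_bot (hW'0 i hi) hm]
    have hW''nt : Nontrivial W''.carrier := by
      rw [Submodule.Quotient.nontrivial_iff]
      intro htop
      obtain ⟨m, hm⟩ := exists_ne (0 : W.carrier ⧸ Γ)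
      have hex : ∃ n : ℕ, quotPieces W.gr Γ (n : ℤ) ≠ ⊥ := by
        by_contra! h
        refine hm (eq_zero_of_cmp (quotPieces W.gr Γ) fun i => (AddSubgroup.mem_bot).1 ?_)
        have hbot : quotPieces W.gr Γ i = ⊥ := by
          rcases lt_or_ge i 0 with hi | hi
          · exact hW'0 i hi
          · lift i to ℕ using hi; exact h i
        exact hbot ▸ cmp_mem (quotPieces W.gr Γ) i m
      refine Nat.find_spec hex (eq_bot_iff.2 fun z hz => ?_)
      obtain ⟨y, hy⟩ : z ∈ LinearMap.range f := htop ▸ Submodule.mem_top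
      have h1 := map_cmp_deg (quotPieces W.gr Γ) (quotPieces W.gr Γ) hf
        ((Nat.find hex : ℤ) - e₀) y
      rw [sub_add_cancel, hy, cmp_of_mem (quotPieces W.gr Γ) hz] at h1
      rw [AddSubgroup.mem_bot, ← h1]
      rcases le_or_gt e₀ (Nat.find hex) with hle | hlt
      · have := Nat.find_min hex (m := Nat.find hex - e₀) (by omega)
        push Not at this
        rw [Nat.cast_sub hle] at this
        rw [eq_zero_of_bot this (cmp_mem (quotPieces W.gr Γ) _ y), map_zero]
      · rw [eq_zero_of_bot (hW'0 ((Nat.find hex : ℤ) - e₀) (by omega))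
          (cmp_mem (quotPieces W.gr Γ) ((Nat.find hex : ℤ) - e₀) y), map_zero]
    have hann'' : J < Module.annihilator A W''.carrier := by
      have h1 : J ≤ Module.annihilator A (W.carrier ⧸ Γ) :=
        hann ▸ LinearMap.annihilator_le_of_surjective _ Γ.mkQ_surjective
      have h2 : Module.annihilator A (W.carrier ⧸ Γ) ≤ Module.annihilator A W''.carrier :=
        LinearMap.annihilator_le_of_surjective _ (LinearMap.range f).mkQ_surjective
      refine lt_of_le_of_ne (h1.trans h2) fun h => ?_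
      have hx : x₀ ∈ Module.annihilator A W''.carrier := Module.mem_annihilator.2 fun z => by
        induction z using Submodule.Quotient.induction_on with
        | H y => exact (Submodule.Quotient.mk_eq_zero _).2 ⟨y, rfl⟩
      rw [← h] at hx
      obtain ⟨m, hm⟩ := exists_ne (0 : W.carrier ⧸ Γ)
      exact hm (hreg.right_eq_zero_of_smul (Module.mem_annihilator.1 (h1 hx) m))
    have : Module.Finite A W''.carrier :=
      inferInstanceAs (Module.Finite A ((W.carrier ⧸ Γ) ⧸ LinearMap.range f))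
    obtain ⟨d, hdim, ⟨xs, es, B'', hes, hxs, hB''⟩, P, q, hP, hq, hPq⟩ :=
      ih _ hann'' W'' hW''0 inferInstance hW''nt rfl
    let x : Fin (d + 1) → A := Fin.cons x₀ xs
    let e : Fin (d + 1) → ℕ := Fin.cons e₀ es
    have he : ∀ k, 0 < e k := fun k => Fin.cases he₀ hes k
    have hx : ∀ k, x k ∈ 𝒜 (e k : ℤ) := fun k => Fin.cases hx₀ hxs k
    have hB : ∀ i : ℤ, ((max B'' BΓ : ℕ) : ℤ) ≤ i → ∀ w ∈ W.gr i,
        w ∈ Ideal.span (Set.range x) • (⊤ : Submodule A W.carrier) := by
      intro i hi w hw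
      let T : Submodule A W.carrier := Ideal.span (Set.range x) • ⊤
      have hT : T.IsHomogeneous W.gr := by
        refine isHomogeneous_of_cmp W.gr fun j z hz => ?_
        refine Submodule.smul_induction_on hz (fun a ha v _ => ?_)
          (fun y z hy hz => by rw [map_add]; exact add_mem hy hz)
        · show cmp W.gr j (a • v) ∈ T
          obtain ⟨t, ht⟩ := exists_sum_cmp W.gr v
          rw [← ht, Finset.smul_sum, map_sum]
          refine sum_mem fun l _ => ?_
          rw [cmp_smul_homog_right 𝒜 W.gr j (cmp_mem W.gr l v) a]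
          exact Submodule.smul_mem_smul
            (Ideal.homogeneous_span 𝒜 (Set.range x) (by
              rintro _ ⟨k, rfl⟩; exact ⟨_, hx k⟩) _ ha) trivial
      have h1 : (LinearMap.range f).mkQ (Γ.mkQ w) ∈
          Ideal.span (Set.range xs) • (⊤ : Submodule A W''.carrier) :=
        hB'' i (by push_cast at hi ⊢; omega) _ ⟨_, ⟨w, hw, rfl⟩, rfl⟩
      have hmap : Ideal.span (Set.range xs) • (⊤ : Submodule A W''.carrier) ≤
          Submodule.map ((LinearMap.range f).mkQ ∘ₗ Γ.mkQ) T := by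
        rw [Submodule.map_smul'', Submodule.map_top, LinearMap.range_eq_top.2
          (show Function.Surjective ((LinearMap.range f).mkQ ∘ₗ Γ.mkQ) from by
            rw [LinearMap.coe_comp]
            exact (LinearMap.range f).mkQ_surjective.comp Γ.mkQ_surjective)]
        refine Submodule.smul_mono_left (Ideal.span_mono ?_)
        rintro _ ⟨k, rfl⟩; exact ⟨k.succ, Fin.cons_succ _ _ k⟩
      obtain ⟨t, ht, hteq⟩ := Submodule.mem_map.1 (hmap h1)
      obtain ⟨y, hy⟩ := (Submodule.Quotient.eq _).1 hteq.symm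
      obtain ⟨v, rfl⟩ := Γ.mkQ_surjective y
      have hΓmem : w - t - x₀ • v ∈ Γ := by
        rw [← Submodule.Quotient.mk_eq_zero]
        change Γ.mkQ _ = 0
        rw [map_sub, map_sub, ← hy, map_smul]
        exact sub_self _
      have hT' : t + x₀ • v ∈ T :=
        T.add_mem ht (Submodule.smul_mem_smul (Ideal.subset_span ⟨0, Fin.cons_zero _ _⟩) trivial)
      have hzero : cmp W.gr i (w - t - x₀ • v) = 0 :=
        hBΓ i (by push_cast at hi ⊢; omega) _ (cmp_mem_of_isHomogeneous W.gr hΓ i hΓmem)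
          (cmp_mem W.gr i _)
      rw [sub_sub, map_sub, cmp_of_mem W.gr hw, sub_eq_zero] at hzero
      rw [hzero]
      exact cmp_mem_of_isHomogeneous W.gr hT i hT'
    have hlow : ((d + 1 : ℕ) : WithBot ℕ∞) ≤ Module.supportDim A W.carrier := by
      refine le_trans ?_ (Module.supportDim_le_of_surjective Γ.mkQ Γ.mkQ_surjective)
      refine le_trans (le_of_eq ?_) (Module.supportDim_quotSMulTop_succ_le_of_notMem_minimalPrimes
        (x := x₀) fun p => hreg.notMem_of_mem_minimalPrimes)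
      rw [Nat.cast_succ, ← hdim]
      congr 1
      refine Module.supportDim_eq_of_equiv ?_
      exact Submodule.quotEquivOfEq _ _ (by ext z; simp [f, Submodule.mem_smul_pointwise_iff_exists])
    have hser' : (1 - PowerSeries.X ^ e₀) * hser 𝒜 (quotPieces W.gr Γ) = hser 𝒜 W''.gr := by
      have := hser_exact 𝒜 (quotPieces W.gr Γ) (quotPieces W.gr Γ) W''.gr hW'0 (e := e₀)
        (f := f) (g := (LinearMap.range f).mkQ) hf (isGrHom_mkQ _ _)
        hreg (LinearMap.exact_map_mkQ_range f) (LinearMap.range f).mkQ_surjective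
      rw [sub_mul, one_mul]
      nth_rewrite 1 [this]
      rw [add_sub_cancel_left]
    let geom : Polynomial ℤ := ∑ k ∈ Finset.range e₀, Polynomial.X ^ k
    refine ⟨d + 1, le_antisymm (supportDim_le_of_bounded 𝒜 hA W.gr hW x e he hx _ hB) hlow,
      ⟨x, e, _, he, hx, hB⟩, P * geom, q + P * geom * (1 - Polynomial.X) ^ (d + 1) * G, ?_, ?_, ?_⟩
    · rw [Polynomial.eval_mul]
      refine mul_pos hP ?_
      simp [geom, Polynomial.eval_finsetSum, he₀]
    · simp [hq]
    · have hgeom : (geom : PowerSeries ℤ) * (1 - PowerSeries.X) = 1 - PowerSeries.X ^ e₀ := by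
        have := congrArg (fun r : Polynomial ℤ => (r : PowerSeries ℤ))
          (geom_sum_mul_neg (Polynomial.X : Polynomial ℤ) e₀)
        simpa [geom] using this
      rw [hsplit]
      push_cast
      rw [← hPq, ← hser', ← hgeom]
      ring

end Groth.Agent.LA18
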