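import Groth.Agent.GrInj18.Basic
import Mathlib.RingTheory.GradedAlgebra.Homogeneous.Ideal
import Mathlib.RingTheory.Artinian.Ring

/-!
# Extending a grading by natural numbers to one by integers
-/

universe u

open DirectSum

namespace Groth.Agent.LA18

open GrInj18

/-- All pieces of negative degree vanish. -/
def NonNeg {X : Type u} [AddCommGroup X] (𝒳 : ℤ → AddSubgroup X) : Prop :=
  ∀ i < 0, 𝒳 i = ⊥

section Mod

variable {X : Type u} [AddCommGroup X] {τ : Type u} [SetLike τ X] [AddSubgroupClass τ X]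
  (𝒳 : ℕ → τ)

/-- The family extended by zero in negative degrees. -/
def extGr : ℤ → AddSubgroup X
  | .ofNat n => AddSubgroup.ofClass (𝒳 n)
  | .negSucc _ => ⊥

theorem extGr_natCast (n : ℕ) : extGr 𝒳 (n : ℤ) = AddSubgroup.ofClass (𝒳 n) := rfl

theorem extGr_nonNeg : NonNeg (extGr 𝒳)
  | .ofNat n, h => absurd h (by simp)
  | .negSucc _, _ => rfl

theorem mem_extGr_cases {i : ℤ} {x : X} (h : x ∈ extGr 𝒳 i) :
    x = 0 ∨ ∃ n : ℕ, i = (n : ℤ) ∧ x ∈ 𝒳 n := by
  rcases i with n | n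
  · exact Or.inr ⟨n, rfl, h⟩
  · exact Or.inl ((AddSubgroup.mem_bot).1 h)

variable [Decomposition 𝒳]

theorem extGr_isInternal : IsInternal (extGr 𝒳) := by
  let c : ℤ → X →+ X := fun i =>
    match i with
    | .ofNat n => cmp 𝒳 n
    | .negSucc _ => 0
  refine isInternal_of_proj _ c (fun i x => ?_) (fun x => ?_) (fun i x hx => ?_)
    (fun i j x hx hij => ?_)
  · rcases i with n | n
    · exact cmp_mem 𝒳 n x
    · exact zero_mem _
  · obtain ⟨t, ht⟩ := exists_sum_cmp 𝒳 x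
    exact ⟨t.map ⟨Int.ofNat, fun a b h => Int.ofNat.inj h⟩, by rw [Finset.sum_map]; exact ht⟩
  · rcases mem_extGr_cases 𝒳 hx with rfl | ⟨n, rfl, hn⟩
    · exact map_zero _
    · exact cmp_of_mem 𝒳 hn
  · rcases mem_extGr_cases 𝒳 hx with rfl | ⟨n, rfl, hn⟩
    · exact map_zero _
    · rcases j with m | m
      · exact cmp_of_ne 𝒳 hn fun h => hij (by rw [h]; rfl)
      · rfl

noncomputable instance : Decomposition (extGr 𝒳) := (extGr_isInternal 𝒳).chooseDecomposition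

end Mod

section Ring

variable {A : Type u} [CommRing A] {σ : Type u} [SetLike σ A] [AddSubgroupClass σ A]
  (𝒜 : ℕ → σ) [GradedRing 𝒜]

instance : SetLike.GradedMonoid (extGr 𝒜) where
  one_mem := SetLike.GradedOne.one_mem (A := 𝒜)
  mul_mem i j a b ha hb := by
    rcases mem_extGr_cases 𝒜 ha with rfl | ⟨n, rfl, hn⟩
    · rw [zero_mul]; exact zero_mem _
    rcases mem_extGr_cases 𝒜 hb with rfl | ⟨m, rfl, hm⟩
    · rw [mul_zero]; exact zero_mem _
    rw [← Nat.cast_add]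
    exact SetLike.mul_mem_graded (A := 𝒜) hn hm

noncomputable instance : GradedRing (extGr 𝒜) where
  __ := (inferInstance : SetLike.GradedMonoid (extGr 𝒜))
  __ := (inferInstance : Decomposition (extGr 𝒜))

variable {X : Type u} [AddCommGroup X] [Module A X] {τ : Type u} [SetLike τ X]
  [AddSubgroupClass τ X] (𝒳 : ℕ → τ)

instance [SetLike.GradedSMul 𝒜 𝒳] : SetLike.GradedSMul (extGr 𝒜) (extGr 𝒳) :=
  ⟨fun i j a x ha hx => by
    rcases mem_extGr_cases 𝒜 ha with rfl | ⟨n, rfl, hn⟩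
    · rw [zero_smul]; exact zero_mem _
    rcases mem_extGr_cases 𝒳 hx with rfl | ⟨m, rfl, hm⟩
    · rw [smul_zero]; exact zero_mem _
    have := SetLike.GradedSMul.smul_mem (A := 𝒜) (B := 𝒳) hn hm
    rw [vadd_eq_add] at this ⊢
    rw [← Nat.cast_add]
    exact this⟩

/-- The degree zero subring of the extended grading is the old one. -/
def deg0Equiv : 𝒜 0 ≃+* GrLC.deg0 (extGr 𝒜) where
  toFun x := ⟨(x : A), x.2⟩
  invFun x := ⟨(x : A), x.2⟩
  left_inv _ := rfl
  right_inv _ := rfl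
  map_mul' _ _ := rfl
  map_add' _ _ := rfl

theorem isArtinianRing_deg0 (h : IsArtinianRing (𝒜 0)) :
    IsArtinianRing (GrLC.deg0 (extGr 𝒜)) :=
  (deg0Equiv 𝒜).isArtinianRing

theorem isLocalRing_deg0 (h : IsLocalRing (𝒜 0)) : IsLocalRing (GrLC.deg0 (extGr 𝒜)) :=
  have : Nontrivial (GrLC.deg0 (extGr 𝒜)) := (deg0Equiv 𝒜).symm.toEquiv.nontrivial
  IsLocalRing.of_surjective' (deg0Equiv 𝒜).toRingHom (deg0Equiv 𝒜).surjective

theorem extGr_span_one (hgen : (HomogeneousIdeal.irrelevant 𝒜).toIdeal = Ideal.span (𝒜 1 : Set A))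
    (i : ℤ) (hi : 0 < i) :
    (extGr 𝒜 i : Set A) ⊆ Ideal.span (extGr 𝒜 1 : Set A) := by
  intro a ha
  rcases mem_extGr_cases 𝒜 ha with rfl | ⟨n, rfl, hn⟩
  · exact zero_mem _
  change a ∈ Ideal.span (𝒜 1 : Set A)
  rw [← hgen]
  exact HomogeneousIdeal.mem_irrelevant_of_mem 𝒜 (by simpa using hi) hn

end Ring

end Groth.Agent.LA18
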