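import Groth.Agent.LA18.GrLen
import Mathlib.Order.KrullDimension

/-!
# Graded modules with finitely many pieces: length over the ring and over degree zero
-/

universe u

open DirectSum GrLC

namespace Groth.Agent.LA18

open GrInj18

variable {A : Type u} [CommRing A] (𝒜 : ℤ → AddSubgroup A) [GradedRing 𝒜]

/-- Components in degree zero of products in a nonnegatively graded ring. -/
theorem cmp_zero_mul (hA : NonNeg 𝒜) (a b : A) :
    cmp 𝒜 0 (a * b) = cmp 𝒜 0 a * cmp 𝒜 0 b := by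
  induction a using piece_induction 𝒜 with
  | h0 => simp
  | hadd x y hx hy => simp [add_mul, hx, hy]
  | hp i x hx =>
    rcases lt_trichotomy i 0 with hi | rfl | hi
    · rw [hA i hi, AddSubgroup.mem_bot] at hx
      simp [hx]
    · rw [cmp_of_mem 𝒜 hx, ← smul_eq_mul, ← smul_eq_mul]
      simpa using cmp_smul_add 𝒜 𝒜 0 hx b
    · rw [cmp_of_ne 𝒜 hx hi.ne', zero_mul, ← smul_eq_mul, cmp_smul_homog_left 𝒜 𝒜 0 hx b]
      have : cmp 𝒜 (0 - i) b = 0 :=
        (AddSubgroup.mem_bot).1 (hA (0 - i) (by omega) ▸ cmp_mem 𝒜 (0 - i) b)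
      rw [this, smul_zero]

/-- The projection to degree zero. -/
noncomputable def proj0 (hA : NonNeg 𝒜) : A →+* deg0 𝒜 where
  toFun a := ⟨cmp 𝒜 0 a, cmp_mem 𝒜 0 a⟩
  map_zero' := Subtype.ext (map_zero _)
  map_one' := Subtype.ext (cmp_of_mem 𝒜 (SetLike.one_mem_graded 𝒜))
  map_add' a b := Subtype.ext (map_add _ a b)
  map_mul' a b := Subtype.ext (cmp_zero_mul 𝒜 hA a b)

theorem proj0_surjective (hA : NonNeg 𝒜) : Function.Surjective (proj0 𝒜 hA) :=
  fun a => ⟨a, Subtype.ext (cmp_of_mem 𝒜 a.2)⟩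

variable {X : Type u} [AddCommGroup X] [Module A X] (𝒳 : ℤ → AddSubgroup X)
  [Decomposition 𝒳] [SetLike.GradedSMul 𝒜 𝒳]

/-- The elements without components below degree `B`. -/
noncomputable def highSub (hA : NonNeg 𝒜) (B : ℤ) : Submodule A X where
  carrier := {x | ∀ i < B, cmp 𝒳 i x = 0}
  zero_mem' := fun i _ => map_zero _
  add_mem' := fun hx hy i hi => by rw [map_add, hx i hi, hy i hi, add_zero]
  smul_mem' := fun c x hx i hi => by
    induction c using piece_induction 𝒜 with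
    | h0 => simp
    | hadd a b ha hb => rw [add_smul, map_add, ha, hb, add_zero]
    | hp j a ha =>
      rw [cmp_smul_homog_left 𝒜 𝒳 i ha]
      rcases lt_or_ge j 0 with hj | hj
      · rw [hA j hj, AddSubgroup.mem_bot] at ha
        rw [ha, zero_smul]
      · rw [hx _ (by omega), smul_zero]

theorem mem_highSub (hA : NonNeg 𝒜) {B : ℤ} {x : X} :
    x ∈ highSub 𝒜 𝒳 hA B ↔ ∀ i < B, cmp 𝒳 i x = 0 := Iff.rfl

theorem isHomogeneous_highSub (hA : NonNeg 𝒜) (B : ℤ) :
    (highSub 𝒜 𝒳 hA B).IsHomogeneous 𝒳 :=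
  isHomogeneous_of_cmp 𝒳 fun d x hx i hi => by
    rw [cmp_ite 𝒳 (cmp_mem 𝒳 d x)]
    split_ifs with h
    · subst h; exact hx d hi
    · rfl

theorem piece_le_highSub (hA : NonNeg 𝒜) {B i : ℤ} (h : B ≤ i) {x : X} (hx : x ∈ 𝒳 i) :
    x ∈ highSub 𝒜 𝒳 hA B := fun j hj => cmp_of_ne 𝒳 hx (by omega)

/-- A finite length graded module has only finitely many pieces. -/
theorem exists_bound_of_isArtinian (hA : NonNeg 𝒜) [IsArtinian A X] :
    ∃ B : ℕ, ∀ i : ℤ, (B : ℤ) ≤ i → 𝒳 i = ⊥ := by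
  obtain ⟨n, hn⟩ := IsArtinian.monotone_stabilizes
    ⟨fun k : ℕ => OrderDual.toDual (highSub 𝒜 𝒳 hA (k : ℤ)),
      fun a b hab x hx i hi => hx i (lt_of_lt_of_le hi (by exact_mod_cast hab))⟩
  refine ⟨n, fun i hi => eq_bot_iff.2 fun x hx => ?_⟩
  obtain ⟨k, hk⟩ : ∃ k : ℕ, i = (k : ℤ) := ⟨i.toNat, by omega⟩
  have hmem : x ∈ highSub 𝒜 𝒳 hA ((k + 1 : ℕ) : ℤ) := by
    have h : highSub 𝒜 𝒳 hA (n : ℤ) = highSub 𝒜 𝒳 hA ((k + 1 : ℕ) : ℤ) :=
      congrArg OrderDual.ofDual (hn (k + 1) (by omega))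
    rw [← h]
    exact piece_le_highSub 𝒜 𝒳 hA hi hx
  have := hmem i (by omega)
  rw [cmp_of_mem 𝒳 hx] at this
  exact this

/-- A submodule contained in one piece: length over `A` is length over degree zero. -/
theorem length_eq_of_le_piece {S : Submodule A X} {i : ℤ}
    (hS : ∀ x, x ∈ S ↔ x ∈ 𝒳 i) :
    Module.length A S = Module.length (deg0 𝒜) (GrLC.comp 𝒜 𝒳 i) := by
  let e₀ : S ≃+ GrLC.comp 𝒜 𝒳 i :=
    { toFun := fun x => ⟨(x : X), (hS _).1 x.2⟩
      invFun := fun x => ⟨(x : X), (hS _).2 x.2⟩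
      left_inv := fun _ => rfl
      right_inv := fun _ => rfl
      map_add' := fun _ _ => rfl }
  have hsmul : ∀ (c : A) (x : S), e₀ (c • x) = (⟨cmp 𝒜 0 c, cmp_mem 𝒜 0 c⟩ : deg0 𝒜) • e₀ x :=
    fun c x => Subtype.ext (by
      change c • (x : X) = cmp 𝒜 0 c • (x : X)
      have h := (hS _).1 (S.smul_mem c x.2)
      rw [← cmp_smul_piece 𝒜 𝒳 ((hS _).1 x.2) c, cmp_of_mem 𝒳 h])
  let O : Submodule A S ≃o Submodule (deg0 𝒜) (GrLC.comp 𝒜 𝒳 i) :=
    { toFun := fun U =>
        { carrier := e₀ '' U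
          zero_mem' := ⟨0, U.zero_mem, map_zero e₀⟩
          add_mem' := by
            rintro _ _ ⟨a, ha, rfl⟩ ⟨b, hb, rfl⟩
            exact ⟨a + b, U.add_mem ha hb, map_add e₀ a b⟩
          smul_mem' := by
            rintro r _ ⟨a, ha, rfl⟩
            refine ⟨(r : A) • a, U.smul_mem _ ha, ?_⟩
            rw [hsmul]
            congr 1
            exact Subtype.ext (cmp_of_mem 𝒜 r.2) }
      invFun := fun V =>
        { carrier := e₀ ⁻¹' V
          zero_mem' := by simp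
          add_mem' := fun ha hb => by simpa using V.add_mem ha hb
          smul_mem' := fun c a ha => by
            rw [Set.mem_preimage, hsmul]
            exact V.smul_mem _ ha }
      left_inv := fun U => SetLike.coe_injective (e₀.injective.preimage_image U)
      right_inv := fun V => SetLike.coe_injective (e₀.surjective.image_preimage V)
      map_rel_iff' := fun {U U'} => Set.image_subset_image_iff e₀.injective }
  rw [← WithBot.coe_inj, Module.coe_length, Module.coe_length]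
  exact Order.krullDim_eq_of_orderIso O

/-- Length over `A` of a module with bounded pieces. -/
theorem length_eq_sum_pieces (hA : NonNeg 𝒜) : ∀ (B : ℕ) (W : GMod.{u} 𝒜), NonNeg W.gr →
    (∀ i : ℤ, (B : ℤ) ≤ i → W.gr i = ⊥) →
      Module.length A W.carrier =
        ∑ n ∈ Finset.range B, Module.length (deg0 𝒜) (GrLC.comp 𝒜 W.gr (n : ℤ))
  | 0, W, hW, hB => by
    have : Subsingleton W.carrier := subsingleton_of_forall_eq 0 fun x =>
      eq_zero_of_cmp W.gr fun d => by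
        rcases lt_or_ge d 0 with hd | hd
        · exact (AddSubgroup.mem_bot).1 (hW d hd ▸ cmp_mem W.gr d x)
        · exact (AddSubgroup.mem_bot).1 (hB d (by exact_mod_cast hd) ▸ cmp_mem W.gr d x)
    rw [Module.length_eq_zero]
    simp
  | B + 1, W, hW, hB => by
    let S := highSub 𝒜 W.gr hA (B : ℤ)
    have hS : ∀ x, x ∈ S ↔ x ∈ W.gr (B : ℤ) := fun x => by
      refine ⟨fun hx => ?_, piece_le_highSub 𝒜 W.gr hA le_rfl⟩
      have : cmp W.gr (B : ℤ) x = x := eq_of_cmp W.gr fun d => by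
        rw [cmp_ite W.gr (cmp_mem W.gr (B : ℤ) x)]
        split_ifs with hd
        · rw [hd]
        · rcases lt_or_ge d (B : ℤ) with hlt | hge
          · exact (hx d hlt).symm
          · exact ((AddSubgroup.mem_bot).1 (hB d (by push_cast; omega) ▸ cmp_mem W.gr d x)).symm
      rw [← this]
      exact cmp_mem W.gr _ x
    have hh := isHomogeneous_highSub 𝒜 W.gr hA (B : ℤ)
    let Q := gquot 𝒜 W.gr hh
    have hQ0 : NonNeg Q.gr := fun i hi => by
      rw [eq_bot_iff]
      rintro _ ⟨m, hm, rfl⟩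
      have : m = 0 := (AddSubgroup.mem_bot).1 (hW i hi ▸ hm)
      simp [this]
    have hQB : ∀ i : ℤ, (B : ℤ) ≤ i → Q.gr i = ⊥ := fun i hi => by
      rw [eq_bot_iff]
      rintro _ ⟨m, hm, rfl⟩
      exact (Submodule.Quotient.mk_eq_zero S).2 (piece_le_highSub 𝒜 W.gr hA hi hm)
    have hIH := length_eq_sum_pieces hA B Q hQ0 hQB
    rw [Module.length_eq_add_of_exact S.subtype S.mkQ S.subtype_injective S.mkQ_surjective
      (LinearMap.exact_subtype_mkQ S), length_eq_of_le_piece 𝒜 W.gr hS, Finset.sum_range_succ,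
      add_comm]
    congr 1
    refine hIH.trans (Finset.sum_congr rfl fun n hn => ?_)
    let φ : GrLC.comp 𝒜 W.gr (n : ℤ) →ₗ[deg0 𝒜] GrLC.comp 𝒜 Q.gr (n : ℤ) :=
      (S.mkQ.restrictScalars (deg0 𝒜)).restrict fun x hx => ⟨x, hx, rfl⟩
    refine (LinearEquiv.ofBijective φ ⟨fun a b hab => ?_, fun y => ?_⟩).length_eq.symm
    · have hd : (a : W.carrier) - b ∈ S := (Submodule.Quotient.eq S).1 (congrArg Subtype.val hab)
      have := hd (n : ℤ) (by exact_mod_cast Finset.mem_range.1 hn)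
      rw [map_sub, cmp_of_mem W.gr a.2, cmp_of_mem W.gr b.2, sub_eq_zero] at this
      exact Subtype.ext this
    · obtain ⟨m, hm, hmy⟩ := y.2
      exact ⟨⟨m, hm⟩, Subtype.ext hmy⟩

end Groth.Agent.LA18
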