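import Groth.Agent.LA18.GrFin
import Mathlib.RingTheory.Ideal.AssociatedPrime.Finiteness

/-!
# The irrelevant ideal of a nonnegatively graded ring: torsion, prime avoidance
-/

universe u

open DirectSum GrLC

namespace Groth.Agent.LA18

open GrInj18

variable {A : Type u} [CommRing A] (𝒜 : ℤ → AddSubgroup A) [GradedRing 𝒜] (hA : NonNeg 𝒜)

/-- The ideal of elements without component in degree zero. -/
noncomputable def irr : Ideal A := RingHom.ker (proj0 𝒜 hA)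

theorem mem_irr {a : A} : a ∈ irr 𝒜 hA ↔ cmp 𝒜 0 a = 0 :=
  RingHom.mem_ker.trans ⟨fun h => congrArg Subtype.val h, fun h => Subtype.ext h⟩

theorem mem_irr_of_mem {i : ℤ} (hi : 0 < i) {a : A} (ha : a ∈ 𝒜 i) : a ∈ irr 𝒜 hA :=
  (mem_irr 𝒜 hA).2 (cmp_of_ne 𝒜 ha hi.ne')

theorem cmp_eq_zero_of_mem_irr {a : A} (ha : a ∈ irr 𝒜 hA) {i : ℤ} (hi : i ≤ 0) :
    cmp 𝒜 i a = 0 := by
  rcases hi.lt_or_eq with h | rfl
  · exact (AddSubgroup.mem_bot).1 (hA i h ▸ cmp_mem 𝒜 i a)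
  · exact (mem_irr 𝒜 hA).1 ha

theorem isHomogeneous_irr : Ideal.IsHomogeneous 𝒜 (irr 𝒜 hA) := fun i a ha => by
  change cmp 𝒜 i a ∈ irr 𝒜 hA
  rcases le_or_gt i 0 with hi | hi
  · rw [cmp_eq_zero_of_mem_irr 𝒜 hA ha hi]; exact zero_mem _
  · exact mem_irr_of_mem 𝒜 hA hi (cmp_mem 𝒜 i a)

theorem isHomogeneous_irr_pow (n : ℕ) : Ideal.IsHomogeneous 𝒜 (irr 𝒜 hA ^ n) := by
  induction n with
  | zero => rw [pow_zero, Ideal.one_eq_top]; exact fun _ _ _ => trivial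
  | succ n ih => rw [pow_succ]; exact ih.mul (isHomogeneous_irr 𝒜 hA)

theorem mem_irr_pow (hgen : ∀ i : ℤ, 0 < i → (𝒜 i : Set A) ⊆ Ideal.span (𝒜 1 : Set A)) :
    ∀ (n : ℕ) (i : ℤ), (n : ℤ) ≤ i → ∀ a ∈ 𝒜 i, a ∈ irr 𝒜 hA ^ n
  | 0, _, _, a, _ => by simp
  | n + 1, i, hi, a, ha => by
    have key : ∀ z ∈ Ideal.span (𝒜 1 : Set A), ∀ c : A,
        cmp 𝒜 i (c * z) ∈ irr 𝒜 hA ^ (n + 1) := by
      intro z hz
      induction hz using Submodule.span_induction with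
      | mem z hz =>
        intro c
        rw [← smul_eq_mul, cmp_smul_homog_right 𝒜 𝒜 i hz c, smul_eq_mul, pow_succ]
        exact Ideal.mul_mem_mul
          (mem_irr_pow hgen n (i - 1) (by push_cast at hi; omega) _ (cmp_mem 𝒜 _ c))
          (mem_irr_of_mem 𝒜 hA one_pos hz)
      | zero => simp
      | add x y _ _ hx hy => intro c; rw [mul_add, map_add]; exact add_mem (hx c) (hy c)
      | smul d x _ hx => intro c; rw [smul_eq_mul, ← mul_assoc]; exact hx _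
    have := key a (hgen i (by push_cast at hi; omega) ha) 1
    rwa [one_mul, cmp_of_mem 𝒜 ha] at this

variable {X : Type u} [AddCommGroup X] [Module A X] (𝒳 : ℤ → AddSubgroup X)
  [Decomposition 𝒳] [SetLike.GradedSMul 𝒜 𝒳]

theorem isHomogeneous_gam : (gam (irr 𝒜 hA) X).IsHomogeneous 𝒳 := by
  refine isHomogeneous_of_cmp 𝒳 fun d x hx => ?_
  obtain ⟨n, hn⟩ := hx
  refine ⟨n, fun r hr => ?_⟩
  obtain ⟨t, ht⟩ := exists_sum_cmp 𝒜 r
  rw [← ht, Finset.sum_smul]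
  refine Finset.sum_eq_zero fun j _ => ?_
  have h := congrArg (cmp 𝒳 (d + j)) (hn _ (isHomogeneous_irr_pow 𝒜 hA n j hr))
  rw [cmp_smul_add 𝒜 𝒳 d ((decompose 𝒜 r j).2), map_zero] at h
  exact h

variable [IsNoetherianRing A] [Module.Finite A X]

omit [Decomposition 𝒳] [SetLike.GradedSMul 𝒜 𝒳] in
theorem exists_pow_kills_gam : ∃ N, ∀ m ∈ gam (irr 𝒜 hA) X, ∀ r ∈ irr 𝒜 hA ^ N, r • m = 0 := by
  classical
  have hfg : (gam (irr 𝒜 hA) X).FG := IsNoetherian.noetherian _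
  obtain ⟨s, hs⟩ := hfg
  have hmem : ∀ m : s, (m : X) ∈ gam (irr 𝒜 hA) X := fun m => hs ▸ Submodule.subset_span m.2
  choose n hn using fun m : s => hmem m
  refine ⟨Finset.univ.sup n, fun m hm r hr => ?_⟩
  have hle : gam (irr 𝒜 hA) X ≤ LinearMap.ker (LinearMap.lsmul A X r) := by
    rw [← hs, Submodule.span_le]
    exact fun y hy => hn ⟨y, hy⟩ r (Ideal.pow_le_pow_right (Finset.le_sup (Finset.mem_univ _)) hr)
  exact hle hm

theorem gam_bounded (hgen : ∀ i : ℤ, 0 < i → (𝒜 i : Set A) ⊆ Ideal.span (𝒜 1 : Set A)) :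
    ∃ B : ℕ, ∀ i : ℤ, (B : ℤ) ≤ i → ∀ m ∈ gam (irr 𝒜 hA) X, m ∈ 𝒳 i → m = 0 := by
  classical
  obtain ⟨N, hN⟩ := exists_pow_kills_gam 𝒜 hA (X := X)
  have hfg : (gam (irr 𝒜 hA) X).FG := IsNoetherian.noetherian _
  obtain ⟨s, hs⟩ := hfg
  choose t ht ht0 using fun m : X => cmp_support 𝒳 m
  let D : ℕ := (s.biUnion t).sup Int.toNat
  refine ⟨D + N, fun i hi m hm hmi => ?_⟩
  rw [← hs] at hm
  have key : ∀ x ∈ Submodule.span A (s : Set X), ∀ c : A, cmp 𝒳 i (c • x) = 0 := by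
    intro x hx
    induction hx using Submodule.span_induction with
    | mem x hx =>
      intro c
      have hxg : x ∈ gam (irr 𝒜 hA) X := hs ▸ Submodule.subset_span hx
      rw [← ht x, Finset.smul_sum, map_sum]
      refine Finset.sum_eq_zero fun j hj => ?_
      rw [cmp_smul_homog_right 𝒜 𝒳 i (cmp_mem 𝒳 j x) c]
      have hjD : j.toNat ≤ D := Finset.le_sup (f := Int.toNat) (Finset.mem_biUnion.2 ⟨x, hx, hj⟩)
      exact hN _ (isHomogeneous_gam 𝒜 hA 𝒳 j hxg) _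
        (mem_irr_pow 𝒜 hA hgen N (i - j) (by push_cast at hi; omega) _ (cmp_mem 𝒜 _ c))
    | zero => simp
    | add x y _ _ hx hy => intro c; rw [smul_add, map_add, hx c, hy c, add_zero]
    | smul d x _ hx => intro c; rw [← mul_smul]; exact hx _
  have := key m hm 1
  rwa [one_smul, cmp_of_mem 𝒳 hmi] at this

omit [IsNoetherianRing A] in
theorem exists_homog_notMem (P : Finset (Ideal A))
    (hP : ∀ p ∈ P, p.IsPrime ∧ ¬ irr 𝒜 hA ≤ p) :
    ∃ (e : ℕ) (x : A), 0 < e ∧ x ∈ 𝒜 (e : ℤ) ∧ ∀ p ∈ P, x ∉ p := by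
  classical
  induction hn : P.card using Nat.strong_induction_on generalizing P with
  | h n ih =>
    subst hn
    rcases P.eq_empty_or_nonempty with rfl | ⟨p, hp⟩
    · exact ⟨1, 0, one_pos, zero_mem _, fun p hp => absurd hp (Finset.notMem_empty p)⟩
    have hrec : ∀ q ∈ P, ∃ (e : ℕ) (x : A), 0 < e ∧ x ∈ 𝒜 (e : ℤ) ∧ ∀ r ∈ P.erase q, x ∉ r :=
      fun q hq => ih _ (Finset.card_erase_lt_of_mem hq) _
        (fun r hr => hP r (Finset.mem_of_mem_erase hr)) rfl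
    by_cases hdom : ∃ q ∈ P, q ≠ p ∧ ∀ (e : ℕ) (x : A), 0 < e → x ∈ 𝒜 (e : ℤ) → x ∈ q → x ∈ p
    · obtain ⟨q, hq, hqp, hsub⟩ := hdom
      obtain ⟨e, x, he, hx, hnot⟩ := hrec q hq
      refine ⟨e, x, he, hx, fun r hr hxr => ?_⟩
      rcases eq_or_ne r q with rfl | hne
      · exact hnot p (Finset.mem_erase.2 ⟨hqp.symm, hp⟩) (hsub e x he hx hxr)
      · exact hnot r (Finset.mem_erase.2 ⟨hne, hr⟩) hxr
    push Not at hdom
    obtain ⟨e, y, he, hy, hyP⟩ := hrec p hp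
    by_cases hyp : y ∈ p
    swap
    · refine ⟨e, y, he, hy, fun r hr hyr => ?_⟩
      rcases eq_or_ne r p with rfl | hne
      · exact hyp hyr
      · exact hyP r (Finset.mem_erase.2 ⟨hne, hr⟩) hyr
    choose d z hd hz hzq hzp using hdom
    obtain ⟨hpprime, hirrp⟩ := hP p hp
    obtain ⟨a, ha, hap⟩ := SetLike.not_le_iff_exists.1 hirrp
    obtain ⟨k, hk⟩ : ∃ k, cmp 𝒜 k a ∉ p := by
      by_contra! h
      obtain ⟨t, ht⟩ := exists_sum_cmp 𝒜 a
      exact hap (ht ▸ sum_mem fun k _ => h k)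
    have hk0 : 0 < k := by
      by_contra hle
      exact hk (by rw [cmp_eq_zero_of_mem_irr 𝒜 hA ha (not_lt.1 hle)]; exact p.zero_mem)
    let Q := (P.erase p).attach
    let w : A := cmp 𝒜 k a * ∏ q ∈ Q, z q.1 (Finset.mem_of_mem_erase q.2) (Finset.ne_of_mem_erase q.2)
    let dw : ℕ := k.toNat + ∑ q ∈ Q, d q.1 (Finset.mem_of_mem_erase q.2) (Finset.ne_of_mem_erase q.2)
    have hdw : 0 < dw := by omega
    have hw : w ∈ 𝒜 (dw : ℤ) := by
      rw [Nat.cast_add, Int.toNat_of_nonneg hk0.le, Nat.cast_sum]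
      exact SetLike.mul_mem_graded (cmp_mem 𝒜 k a)
        (SetLike.prod_mem_graded _ _ _ fun q _ => hz q.1 _ _)
    have hwp : w ∉ p := by
      intro h
      rcases hpprime.mem_or_mem h with h | h
      · exact hk h
      · obtain ⟨q, -, hq⟩ := hpprime.prod_mem_iff.1 h
        exact hzp q.1 _ _ hq
    have hwq : ∀ r ∈ P.erase p, w ∈ r := fun r hr =>
      Ideal.mul_mem_left r _ (Ideal.prod_mem r (Finset.mem_attach _ ⟨r, hr⟩) (hzq r _ _))
    refine ⟨dw * e, y ^ dw + w ^ e, by positivity, add_mem ?_ ?_, fun r hr hxr => ?_⟩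
    · have := SetLike.pow_mem_graded dw hy
      rwa [nsmul_eq_mul, ← Nat.cast_mul] at this
    · have := SetLike.pow_mem_graded e hw
      rwa [nsmul_eq_mul, ← Nat.cast_mul, mul_comm] at this
    rcases eq_or_ne r p with rfl | hne
    · have hw' : w ^ e ∈ r := by
        simpa using sub_mem hxr (r.pow_mem_of_mem hyp dw hdw)
      exact hwp (hpprime.mem_of_pow_mem e hw')
    · have hr' := Finset.mem_erase.2 ⟨hne, hr⟩
      have hy' : y ^ dw ∈ r := by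
        simpa using sub_mem hxr (r.pow_mem_of_mem (hwq r hr') e he)
      exact hyP r hr' ((hP r hr).1.mem_of_pow_mem dw hy')

end Groth.Agent.LA18
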