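import Groth.Agent.LA18.GrExt
import Groth.Agent.GrInj18.Ext
import Mathlib.RingTheory.Length
import Mathlib.RingTheory.HopkinsLevitzki
import Mathlib.RingTheory.PowerSeries.Basic

/-!
# Lengths of the pieces of graded modules and Hilbert series
-/

universe u

open DirectSum GrLC

namespace Groth.Agent.LA18

open GrInj18

variable {A : Type u} [CommRing A] (𝒜 : ℤ → AddSubgroup A) [GradedRing 𝒜]
variable {X : Type u} [AddCommGroup X] [Module A X] (𝒳 : ℤ → AddSubgroup X)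
  [SetLike.GradedSMul 𝒜 𝒳]

theorem mem_comp {i : ℤ} {x : X} : x ∈ GrLC.comp 𝒜 𝒳 i ↔ x ∈ 𝒳 i := Iff.rfl

section Dec

variable [Decomposition 𝒳]

theorem cmp_smul_piece {i : ℤ} {x : X} (hx : x ∈ 𝒳 i) (c : A) :
    cmp 𝒳 i (c • x) = cmp 𝒜 0 c • x := by
  rw [cmp_smul_homog_right 𝒜 𝒳 i hx c, sub_self]

theorem isNoetherian_comp [IsNoetherian A X] (i : ℤ) :
    IsNoetherian (deg0 𝒜) (GrLC.comp 𝒜 𝒳 i) := by
  let Φ : Submodule (deg0 𝒜) (GrLC.comp 𝒜 𝒳 i) → Submodule A X := fun N =>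
    Submodule.span A ((fun y : GrLC.comp 𝒜 𝒳 i => (y : X)) '' (N : Set _))
  have hinv : ∀ N, ∀ x ∈ Φ N, ∀ c : A,
      (⟨cmp 𝒳 i (c • x), cmp_mem 𝒳 i _⟩ : GrLC.comp 𝒜 𝒳 i) ∈ N := by
    intro N x hx
    induction hx using Submodule.span_induction with
    | mem x hx =>
      obtain ⟨y, hy, rfl⟩ := hx
      intro c
      have e : (⟨cmp 𝒳 i (c • (y : X)), cmp_mem 𝒳 i _⟩ : GrLC.comp 𝒜 𝒳 i) =
          (⟨cmp 𝒜 0 c, cmp_mem 𝒜 0 c⟩ : deg0 𝒜) • y := Subtype.ext (cmp_smul_piece 𝒜 𝒳 y.2 c)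
      exact e ▸ N.smul_mem _ hy
    | zero =>
      intro c
      have e : (⟨cmp 𝒳 i (c • (0 : X)), cmp_mem 𝒳 i _⟩ : GrLC.comp 𝒜 𝒳 i) = 0 :=
        Subtype.ext ((congrArg (cmp 𝒳 i) (smul_zero c)).trans (map_zero _))
      exact e ▸ N.zero_mem
    | add x y _ _ hx hy =>
      intro c
      have e : (⟨cmp 𝒳 i (c • (x + y)), cmp_mem 𝒳 i _⟩ : GrLC.comp 𝒜 𝒳 i) =
          ⟨cmp 𝒳 i (c • x), cmp_mem 𝒳 i _⟩ + ⟨cmp 𝒳 i (c • y), cmp_mem 𝒳 i _⟩ :=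
        Subtype.ext ((congrArg (cmp 𝒳 i) (smul_add c x y)).trans (map_add _ _ _))
      exact e ▸ N.add_mem (hx c) (hy c)
    | smul d x _ hx =>
      intro c
      have e : (⟨cmp 𝒳 i (c • d • x), cmp_mem 𝒳 i _⟩ : GrLC.comp 𝒜 𝒳 i) =
          ⟨cmp 𝒳 i ((c * d) • x), cmp_mem 𝒳 i _⟩ :=
        Subtype.ext (congrArg (cmp 𝒳 i) (mul_smul c d x).symm)
      exact e ▸ hx (c * d)
  have hmono : StrictMono Φ := by
    refine strictMono_of_le_iff_le fun N N' => ⟨fun h => Submodule.span_mono (Set.image_mono h),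
      fun h y hy => ?_⟩
    have h1 := hinv N' _ (h (Submodule.subset_span ⟨y, hy, rfl⟩)) 1
    have e : (⟨cmp 𝒳 i ((1 : A) • (y : X)), cmp_mem 𝒳 i _⟩ : GrLC.comp 𝒜 𝒳 i) = y :=
      Subtype.ext ((congrArg (cmp 𝒳 i) (one_smul A (y : X))).trans (cmp_of_mem 𝒳 y.2))
    exact e ▸ h1
  rw [isNoetherian_iff']
  exact hmono.wellFoundedGT

theorem length_comp_ne_top [IsArtinianRing (deg0 𝒜)] [IsNoetherian A X] (i : ℤ) :
    Module.length (deg0 𝒜) (GrLC.comp 𝒜 𝒳 i) ≠ ⊤ := by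
  have := isNoetherian_comp 𝒜 𝒳 i
  exact Module.length_ne_top_iff.2
    (isFiniteLength_iff_isNoetherian_isArtinian.2 ⟨inferInstance, inferInstance⟩)

end Dec

/-- The length of a piece over the degree zero subring, as a natural number. -/
noncomputable def plen (i : ℤ) : ℕ := (Module.length (deg0 𝒜) (GrLC.comp 𝒜 𝒳 i)).toNat

/-- The Hilbert series. -/
noncomputable def hser : PowerSeries ℤ := PowerSeries.mk fun n => (plen 𝒜 𝒳 (n : ℤ) : ℤ)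

theorem coeff_hser (n : ℕ) : PowerSeries.coeff n (hser 𝒜 𝒳) = (plen 𝒜 𝒳 (n : ℤ) : ℤ) :=
  PowerSeries.coeff_mk _ _

theorem plen_eq_zero_of_bot {i : ℤ} (h : 𝒳 i = ⊥) : plen 𝒜 𝒳 i = 0 := by
  have : Subsingleton (GrLC.comp 𝒜 𝒳 i) := subsingleton_of_forall_eq 0 fun x =>
    Subtype.ext ((AddSubgroup.mem_bot).1 (h ▸ (x.2 : (x : X) ∈ 𝒳 i)))
  rw [plen, Module.length_eq_zero, ENat.toNat_zero]

theorem plen_eq_zero_iff [Decomposition 𝒳] [IsArtinianRing (deg0 𝒜)] [IsNoetherian A X] {i : ℤ} :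
    plen 𝒜 𝒳 i = 0 ↔ 𝒳 i = ⊥ := by
  refine ⟨fun h => ?_, plen_eq_zero_of_bot 𝒜 𝒳⟩
  rw [plen, ENat.toNat_eq_zero] at h
  have h0 := h.resolve_right (length_comp_ne_top 𝒜 𝒳 i)
  rw [Module.length_eq_zero_iff] at h0
  rw [eq_bot_iff]
  intro x hx
  exact congrArg Subtype.val
    (Subsingleton.elim (⟨x, hx⟩ : GrLC.comp 𝒜 𝒳 i) 0)

theorem toNat_sum {β : Type*} [Fintype β] (f : β → ℕ∞) (h : ∀ b, f b ≠ ⊤) :
    (∑ b, f b).toNat = ∑ b, (f b).toNat := by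
  lift f to β → ℕ using h
  simp [← Nat.cast_sum]

section Exact

variable {Y : Type u} [AddCommGroup Y] [Module A Y] (𝒴 : ℤ → AddSubgroup Y)
  [SetLike.GradedSMul 𝒜 𝒴] [Decomposition 𝒳] [Decomposition 𝒴]
  {Z : Type u} [AddCommGroup Z] [Module A Z] (𝒵 : ℤ → AddSubgroup Z)
  [SetLike.GradedSMul 𝒜 𝒵] [Decomposition 𝒵]

/-- The map on pieces given by a homogeneous map. -/
def pieceMap {e : ℤ} (f : X →ₗ[A] Y) (hf : IsGrHomDeg 𝒳 𝒴 f e) (i : ℤ) :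
    GrLC.comp 𝒜 𝒳 i →ₗ[deg0 𝒜] GrLC.comp 𝒜 𝒴 (i + e) :=
  (f.restrictScalars (deg0 𝒜)).restrict fun x hx => hf i x hx

theorem plen_exact [IsArtinianRing (deg0 𝒜)] [IsNoetherian A Y] {e : ℤ} {f : X →ₗ[A] Y}
    {g : Y →ₗ[A] Z} (hf : IsGrHomDeg 𝒳 𝒴 f e) (hg : IsGrHom 𝒴 𝒵 g)
    (hinj : Function.Injective f) (hfg : Function.Exact f g) (hsurj : Function.Surjective g)
    (i : ℤ) : plen 𝒜 𝒴 (i + e) = plen 𝒜 𝒳 i + plen 𝒜 𝒵 (i + e) := by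
  let g' := pieceMap 𝒜 𝒴 𝒵 g ((isGrHomDeg_zero_iff 𝒴 𝒵).2 hg) (i + e)
  let g'' : GrLC.comp 𝒜 𝒴 (i + e) →ₗ[deg0 𝒜] GrLC.comp 𝒜 𝒵 (i + e) :=
    (g.restrictScalars (deg0 𝒜)).restrict fun x hx => hg (i + e) x hx
  have h := Module.length_eq_add_of_exact (pieceMap 𝒜 𝒳 𝒴 f hf i) g''
    (fun a b hab => Subtype.ext (hinj (congrArg Subtype.val hab))) (fun z => ?_) (fun y => ?_)
  · rw [plen, plen, plen, h]
    refine ENat.toNat_add ?_ ?_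
    · exact ne_top_of_le_ne_top (length_comp_ne_top 𝒜 𝒴 (i + e)) (h ▸ le_self_add)
    · exact ne_top_of_le_ne_top (length_comp_ne_top 𝒜 𝒴 (i + e)) (h ▸ le_add_self)
  · obtain ⟨y, hy⟩ := hsurj (z : Z)
    refine ⟨⟨cmp 𝒴 (i + e) y, cmp_mem 𝒴 _ _⟩, Subtype.ext ?_⟩
    change g (cmp 𝒴 (i + e) y) = z
    rw [map_cmp 𝒴 𝒵 hg, hy]
    exact cmp_of_mem 𝒵 z.2
  · constructor
    · intro h0
      obtain ⟨x, hx⟩ := (hfg (y : Y)).1 (congrArg Subtype.val h0)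
      refine ⟨⟨cmp 𝒳 i x, cmp_mem 𝒳 _ _⟩, Subtype.ext ?_⟩
      change f (cmp 𝒳 i x) = y
      rw [map_cmp_deg 𝒳 𝒴 hf, hx]
      exact cmp_of_mem 𝒴 y.2
    · rintro ⟨x, rfl⟩
      exact Subtype.ext (hfg.apply_apply_eq_zero (x : X))

theorem hser_exact [IsArtinianRing (deg0 𝒜)] [IsNoetherian A Y] (hX : NonNeg 𝒳) {e : ℕ}
    {f : X →ₗ[A] Y} {g : Y →ₗ[A] Z} (hf : IsGrHomDeg 𝒳 𝒴 f (e : ℤ)) (hg : IsGrHom 𝒴 𝒵 g)
    (hinj : Function.Injective f) (hfg : Function.Exact f g) (hsurj : Function.Surjective g) :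
    hser 𝒜 𝒴 = PowerSeries.X ^ e * hser 𝒜 𝒳 + hser 𝒜 𝒵 := by
  ext n
  simp only [map_add, PowerSeries.coeff_X_pow_mul', coeff_hser]
  have h := plen_exact 𝒜 𝒳 𝒴 𝒵 hf hg hinj hfg hsurj ((n : ℤ) - e)
  rw [sub_add_cancel] at h
  split_ifs with hen
  · rw [h, Nat.cast_add, Nat.cast_sub hen]
  · rw [h, plen_eq_zero_of_bot 𝒜 𝒳 (hX _ (by omega))]
    simp

theorem hser_congr (φ : X ≃ₗ[A] Y) (hφ : IsGrHom 𝒳 𝒴 φ.toLinearMap) :
    hser 𝒜 𝒳 = hser 𝒜 𝒴 := by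
  ext n
  rw [coeff_hser, coeff_hser]
  let e : GrLC.comp 𝒜 𝒳 (n : ℤ) ≃ₗ[deg0 𝒜] GrLC.comp 𝒜 𝒴 (n : ℤ) :=
    LinearEquiv.ofBijective ((φ.toLinearMap.restrictScalars (deg0 𝒜)).restrict
      fun x hx => hφ (n : ℤ) x hx)
      ⟨fun a b h => Subtype.ext (φ.injective (congrArg Subtype.val h)), fun y => by
        obtain ⟨x, hx, hxy⟩ := exists_homog_preimage 𝒳 𝒴 hφ ⟨φ.symm y, φ.apply_symm_apply y⟩ y.2
        exact ⟨⟨x, hx⟩, Subtype.ext hxy⟩⟩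
  rw [plen, plen, e.length_eq]

end Exact

section Free

/-- The series of a finite free graded module. -/
theorem hser_free [IsArtinianRing (deg0 𝒜)] [IsNoetherianRing A] (hA : NonNeg 𝒜) {k : ℕ}
    (deg : Fin k → ℤ) (hdeg : ∀ b, 0 ≤ deg b) :
    hser 𝒜 (freeGr 𝒜 deg) = (∑ b, PowerSeries.X ^ (deg b).toNat) * hser 𝒜 𝒜 := by
  ext n
  rw [Finset.sum_mul, map_sum, coeff_hser]
  let e : GrLC.comp 𝒜 (freeGr 𝒜 deg) (n : ℤ) ≃ₗ[deg0 𝒜]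
      ((b : Fin k) → GrLC.comp 𝒜 𝒜 ((n : ℤ) - deg b)) :=
    { toFun := fun v b => ⟨(v : Fin k → A) b, v.2 b⟩
      invFun := fun w => ⟨fun b => (w b : A), fun b => (w b).2⟩
      map_add' := fun _ _ => rfl
      map_smul' := fun _ _ => rfl
      left_inv := fun _ => rfl
      right_inv := fun _ => rfl }
  rw [plen, e.length_eq, Module.length_pi_of_fintype,
    toNat_sum _ fun b => length_comp_ne_top 𝒜 𝒜 _, Nat.cast_sum]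
  refine Finset.sum_congr rfl fun b _ => ?_
  rw [PowerSeries.coeff_X_pow_mul']
  change ((plen 𝒜 𝒜 ((n : ℤ) - deg b) : ℕ) : ℤ) = _
  obtain ⟨m, hm⟩ : ∃ m : ℕ, deg b = (m : ℤ) := ⟨_, (Int.toNat_of_nonneg (hdeg b)).symm⟩
  rw [hm, Int.toNat_natCast]
  split_ifs with hmn
  · rw [coeff_hser, Nat.cast_sub hmn]
  · rw [plen_eq_zero_of_bot 𝒜 𝒜 (hA _ (by omega))]
    simp

theorem freeGr_nonNeg (hA : NonNeg 𝒜) {k : ℕ} {deg : Fin k → ℤ} (hdeg : ∀ b, 0 ≤ deg b) :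
    NonNeg (freeGr 𝒜 deg) := fun i hi => by
  rw [eq_bot_iff]
  intro v hv
  refine funext fun b => ?_
  have := hv b
  rw [hA _ (by have := hdeg b; omega), AddSubgroup.mem_bot] at this
  exact this

end Free

end Groth.Agent.LA18
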