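import Groth.Agent.LA18.SamuelKoszul
import Groth.Agent.IR14.Main
import Mathlib.RingTheory.LocalRing.Length
import Mathlib.Data.Finsupp.MonomialOrder.DegLex
import Mathlib.Algebra.Order.Antidiag.FinsuppEquiv

/-!
# Lech's inequality: a staircase bound for the colength of powers of an ideal

For a reduction `(x₁, …, xₜ)` of the maximal ideal, filter the ring by the monomials `x ^ α` in a
degree lexicographic order; the successive quotients are cyclic, of lengths decreasing in `α`.
-/

universe u

open Finsupp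
open scoped MonomialOrder

namespace Groth.Agent.LA18

variable {B : Type u} [CommRing B] {t : ℕ}

local notation "ord" => (MonomialOrder.degLex : MonomialOrder (Fin t))

/-- A monomial in the given elements. -/
def mon (x : Fin t → B) (α : Fin t →₀ ℕ) : B := ∏ i, x i ^ α i

theorem mon_zero (x : Fin t → B) : mon x 0 = 1 := by simp [mon]

theorem mon_add (x : Fin t → B) (α β : Fin t →₀ ℕ) : mon x (α + β) = mon x α * mon x β := by
  simp [mon, pow_add, Finset.prod_mul_distrib]

theorem mon_single (x : Fin t → B) (i : Fin t) : mon x (single i 1) = x i := by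
  rw [mon, Finset.prod_eq_single i (fun j _ hj => by simp [Finsupp.single_eq_of_ne hj])
    (by simp)]
  simp

theorem mon_nsmul (x : Fin t → B) (n : ℕ) (α : Fin t →₀ ℕ) : mon x (n • α) = mon x α ^ n := by
  induction n with
  | zero => simp [mon_zero]
  | succ n ih => rw [succ_nsmul, mon_add, ih, pow_succ]

theorem eval_monomial_eq (x : Fin t → B) (α : Fin t →₀ ℕ) (c : B) :
    MvPolynomial.eval x (MvPolynomial.monomial α c) = c * mon x α := by
  rw [MvPolynomial.eval_monomial, mon, Finsupp.prod_fintype]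
  intro i
  simp

/-- The ideal of the monomials above `α`. -/
def hiI (x : Fin t → B) (α : Fin t →₀ ℕ) : Ideal B :=
  Ideal.span (mon x '' {β | α ≺[ord] β})

theorem mon_mem_hiI (x : Fin t → B) {α β : Fin t →₀ ℕ} (h : α ≺[ord] β) : mon x β ∈ hiI x α :=
  Ideal.subset_span ⟨β, h, rfl⟩

theorem ord_lt_add_right {α β : Fin t →₀ ℕ} (h : α ≺[ord] β) (γ : Fin t →₀ ℕ) :
    α + γ ≺[ord] β + γ := by
  simpa only [map_add, add_lt_add_iff_right] using h

theorem ord_lt_of_degree_lt {α β : Fin t →₀ ℕ} (h : α.degree < β.degree) : α ≺[ord] β := by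
  rw [MonomialOrder.degLex_lt_iff, DegLex.lt_iff]
  simp only [ofDegLex_toDegLex]
  exact Or.inl h

theorem degree_le_of_ord_lt {α β : Fin t →₀ ℕ} (h : α ≺[ord] β) : α.degree ≤ β.degree :=
  not_lt.1 fun h' => lt_asymm h (ord_lt_of_degree_lt h')

theorem ord_lt_add_of_ne_zero {α γ : Fin t →₀ ℕ} (h : γ ≠ 0) : α ≺[ord] α + γ := by
  refine ord_lt_of_degree_lt ?_
  rw [map_add]
  have : γ.degree ≠ 0 := fun h0 => h ((Finsupp.degree_eq_zero_iff γ).1 h0)
  omega

theorem hiI_mul_mon {x : Fin t → B} {α : Fin t →₀ ℕ} {b : B} (hb : b ∈ hiI x α) (γ : Fin t →₀ ℕ) :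
    b * mon x γ ∈ hiI x (α + γ) := by
  induction hb using Submodule.span_induction with
  | mem b hb =>
    obtain ⟨β, hβ, rfl⟩ := hb
    rw [← mon_add]
    exact mon_mem_hiI x (ord_lt_add_right hβ γ)
  | zero => simp
  | add a b _ _ ha hb => rw [add_mul]; exact add_mem ha hb
  | smul c b _ hb => rw [smul_eq_mul, mul_assoc]; exact Ideal.mul_mem_left _ c hb

theorem hiI_mul_hiI {x : Fin t → B} {α β : Fin t →₀ ℕ} {a b : B} (ha : a ∈ hiI x α)
    (hb : b ∈ hiI x β) : a * b ∈ hiI x (α + β) := by
  induction ha using Submodule.span_induction with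
  | mem a ha =>
    obtain ⟨γ, hγ, rfl⟩ := ha
    have h1 := hiI_mul_mon hb γ
    rw [mul_comm] at h1
    refine Ideal.span_mono ?_ h1
    rintro _ ⟨δ, hδ, rfl⟩
    refine ⟨δ, ?_, rfl⟩
    simp only [Set.mem_setOf_eq] at hδ hγ ⊢
    refine lt_trans ?_ hδ
    rw [add_comm β γ]
    exact ord_lt_add_right hγ β
  | zero => simp
  | add a c _ _ ha hc => rw [add_mul]; exact add_mem ha hc
  | smul c a _ ha => rw [smul_eq_mul, mul_assoc]; exact Ideal.mul_mem_left _ c ha

theorem pow_sub_mon_mem {x : Fin t → B} {α : Fin t →₀ ℕ} {i : B} (hi : i - mon x α ∈ hiI x α) :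
    ∀ n : ℕ, i ^ n - mon x (n • α) ∈ hiI x (n • α)
  | 0 => by simp [mon_zero]
  | n + 1 => by
    have h1 := pow_sub_mon_mem hi n
    rw [show i ^ (n + 1) - mon x ((n + 1) • α) = (i ^ n - mon x (n • α)) * (i - mon x α) +
        (i ^ n - mon x (n • α)) * mon x α + (i - mon x α) * mon x (n • α) by
      rw [succ_nsmul, mon_add]; ring, succ_nsmul]
    refine add_mem (add_mem (hiI_mul_hiI h1 hi) (hiI_mul_mon h1 α)) ?_
    rw [add_comm]
    exact hiI_mul_mon hi _

theorem pow_span_le_monomials (x : Fin t → B) :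
    ∀ m : ℕ, Ideal.span (Set.range x) ^ m ≤ Ideal.span (mon x '' {β | β.degree = m})
  | 0 => by
    rw [pow_zero, Ideal.one_eq_top, top_le_iff, Ideal.eq_top_iff_one, ← mon_zero x]
    exact Ideal.subset_span (Set.mem_image_of_mem _ (by simp))
  | m + 1 => by
    rw [pow_succ]
    refine (Ideal.mul_mono_left (pow_span_le_monomials x m)).trans ?_
    rw [Ideal.span_mul_span', Ideal.span_le]
    rintro _ ⟨_, ⟨β, hβ, rfl⟩, _, ⟨j, rfl⟩, rfl⟩
    simp only [SetLike.mem_coe]
    rw [show mon x β * x j = mon x (β + single j 1) by rw [mon_add, mon_single]]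
    refine Ideal.subset_span (Set.mem_image_of_mem _ ?_)
    rw [Set.mem_setOf_eq] at hβ ⊢
    rw [map_add, hβ, Finsupp.degree_single]

theorem mon_mem_pow (x : Fin t → B) (α : Fin t →₀ ℕ) :
    mon x α ∈ Ideal.span (Set.range x) ^ α.degree := by
  induction α using Finsupp.induction with
  | zero => simp [mon_zero]
  | single_add i k α _ _ ih =>
    rw [mon_add, map_add, Finsupp.degree_single, pow_add]
    refine Ideal.mul_mem_mul ?_ ih
    rw [show (single i k : Fin t →₀ ℕ) = k • single i 1 by simp, mon_nsmul, mon_single]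
    exact Ideal.pow_mem_pow (Ideal.subset_span (Set.mem_range_self i)) k

theorem pow_le_hiI (x : Fin t → B) {α : Fin t →₀ ℕ} {m : ℕ} (h : α.degree < m) :
    Ideal.span (Set.range x) ^ m ≤ hiI x α :=
  (pow_span_le_monomials x m).trans (Ideal.span_mono (Set.image_mono fun β hβ =>
    ord_lt_of_degree_lt (by rw [Set.mem_setOf_eq] at hβ; omega)))

/-- The annihilator of the monomial `α` modulo the higher ones and `J`. -/
def pieceIdeal (x : Fin t → B) (J : Ideal B) (α : Fin t →₀ ℕ) : Ideal B :=
  Submodule.comap (LinearMap.mulRight B (mon x α)) (J ⊔ hiI x α)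

theorem mem_pieceIdeal {x : Fin t → B} {J : Ideal B} {α : Fin t →₀ ℕ} {b : B} :
    b ∈ pieceIdeal x J α ↔ b * mon x α ∈ J ⊔ hiI x α := Iff.rfl

theorem pieceIdeal_mono_left (x : Fin t → B) {J J' : Ideal B} (h : J ≤ J') (α : Fin t →₀ ℕ) :
    pieceIdeal x J α ≤ pieceIdeal x J' α :=
  Submodule.comap_mono (sup_le_sup_right h _)

theorem pieceIdeal_bot_mono (x : Fin t → B) (α γ : Fin t →₀ ℕ) :
    pieceIdeal x ⊥ α ≤ pieceIdeal x ⊥ (α + γ) := fun b hb => by
  rw [mem_pieceIdeal, bot_sup_eq] at hb ⊢
  rw [mon_add, ← mul_assoc]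
  exact hiI_mul_mon hb γ

theorem span_le_pieceIdeal (x : Fin t → B) (J : Ideal B) (α : Fin t →₀ ℕ) :
    Ideal.span (Set.range x) ≤ pieceIdeal x J α := by
  rw [Ideal.span_le]
  rintro _ ⟨i, rfl⟩
  rw [SetLike.mem_coe, mem_pieceIdeal]
  refine Submodule.mem_sup_right ?_
  rw [← mon_single x i, ← mon_add, add_comm]
  exact mon_mem_hiI x (ord_lt_add_of_ne_zero (by simp))

/-- The length of a piece. -/
noncomputable def pl (x : Fin t → B) (J : Ideal B) (α : Fin t →₀ ℕ) : ℕ∞ :=
  Module.length B (B ⧸ pieceIdeal x J α)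

theorem pl_anti_left (x : Fin t → B) {J J' : Ideal B} (h : J ≤ J') (α : Fin t →₀ ℕ) :
    pl x J' α ≤ pl x J α :=
  Module.length_le_of_surjective (Submodule.factor (pieceIdeal_mono_left x h α))
    (Submodule.factor_surjective _)

theorem pl_bot_anti (x : Fin t → B) (α γ : Fin t →₀ ℕ) : pl x ⊥ (α + γ) ≤ pl x ⊥ α :=
  Module.length_le_of_surjective (Submodule.factor (pieceIdeal_bot_mono x α γ))
    (Submodule.factor_surjective _)

theorem pl_le_length (x : Fin t → B) (J : Ideal B) (α : Fin t →₀ ℕ) :
    pl x J α ≤ Module.length B (B ⧸ Ideal.span (Set.range x)) :=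
  Module.length_le_of_surjective (Submodule.factor (span_le_pieceIdeal x J α))
    (Submodule.factor_surjective _)

theorem pl_eq_zero_iff {x : Fin t → B} {J : Ideal B} {α : Fin t →₀ ℕ} :
    pl x J α = 0 ↔ mon x α ∈ J ⊔ hiI x α := by
  rw [pl, Module.length_eq_zero_iff, Submodule.Quotient.subsingleton_iff, Ideal.eq_top_iff_one,
    mem_pieceIdeal, one_mul]

theorem pl_eq_bot_of_le {x : Fin t → B} {J : Ideal B} {α : Fin t →₀ ℕ} (h : J ≤ hiI x α) :
    pl x J α = pl x ⊥ α := by
  rw [pl, pl, pieceIdeal, pieceIdeal, sup_eq_right.2 h, bot_sup_eq]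

theorem length_step (x : Fin t → B) (J : Ideal B) (α : Fin t →₀ ℕ) :
    Module.length B (B ⧸ (J ⊔ hiI x α)) =
      pl x J α + Module.length B (B ⧸ (Ideal.span {mon x α} ⊔ (J ⊔ hiI x α))) := by
  have hr : LinearMap.range (LinearMap.mulRight B (mon x α)) = Ideal.span {mon x α} := by
    ext b
    simp [Ideal.mem_span_singleton', eq_comm]
  rw [length_comap_add (LinearMap.mulRight B (mon x α)) (J ⊔ hiI x α), hr]
  rfl

/-- The ideal of the monomials outside a set. -/
def outI (x : Fin t → B) (D : Finset (Fin t →₀ ℕ)) : Ideal B :=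
  Ideal.span (mon x '' {β | β ∉ D})

/-- The length is the sum of the lengths of the pieces, over an initial segment. -/
theorem length_out_eq_sum (x : Fin t → B) (J : Ideal B) :
    ∀ D : Finset (Fin t →₀ ℕ), (∀ a ∈ D, ∀ b, b ≺[ord] a → b ∈ D) →
      Module.length B (B ⧸ (J ⊔ outI x D)) = ∑ a ∈ D, pl x J a := by
  intro D
  induction D using Finset.strongInduction with
  | _ D ih =>
    intro hD
    rcases D.eq_empty_or_nonempty with rfl | hne
    · have : J ⊔ outI x ∅ = ⊤ := by
        rw [Ideal.eq_top_iff_one]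
        exact Submodule.mem_sup_right (Ideal.subset_span ⟨0, by simp, mon_zero x⟩)
      rw [this]
      simp [Module.length_eq_zero]
    obtain ⟨a, ha, hmax⟩ := D.exists_max_image (fun a => (ord).toSyn a) hne
    have h1 : outI x D = hiI x a := by
      refine congrArg Ideal.span (congrArg (mon x '' ·) (Set.ext fun b => ?_))
      simp only [Set.mem_setOf_eq]
      refine ⟨fun hb => ?_, fun hb hbD => not_le.2 hb (hmax b hbD)⟩
      rcases lt_trichotomy ((ord).toSyn a) ((ord).toSyn b) with h | h | h
      · exact h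
      · exact absurd ((ord).toSyn.injective h ▸ ha) hb
      · exact absurd (hD a ha b h) hb
    have h2 : Ideal.span {mon x a} ⊔ (J ⊔ hiI x a) = J ⊔ outI x (D.erase a) := by
      rw [← sup_assoc, sup_comm _ J, sup_assoc, ← h1, outI, outI, ← Ideal.span_union,
        ← Set.image_singleton, ← Set.image_union]
      refine congrArg (fun s => J ⊔ Ideal.span (mon x '' s)) (Set.ext fun b => ?_)
      simp only [Set.mem_union, Set.mem_singleton_iff, Set.mem_setOf_eq, Finset.mem_erase, not_and_or,
        not_not]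
    rw [h1, length_step, h2, ih (D.erase a) (Finset.erase_ssubset ha) ?_,
      Finset.add_sum_erase D _ ha]
    intro b hb c hc
    rw [Finset.mem_erase] at hb ⊢
    refine ⟨fun h => ?_, hD b hb.2 c hc⟩
    subst h
    exact not_le.2 hc (hmax b hb.2)

/-- The exponents of degree less than `M`. -/
noncomputable def below (t M : ℕ) : Finset (Fin t →₀ ℕ) :=
  (Finset.range M).biUnion fun h => (Finset.univ : Finset (Fin t)).finsuppAntidiag h

theorem mem_below {M : ℕ} {β : Fin t →₀ ℕ} : β ∈ below t M ↔ β.degree < M := by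
  simp [below, Finset.mem_finsuppAntidiag, Finsupp.degree_eq_sum]

theorem choose_le_card_below (t : ℕ) : ∀ M, 0 < M → M.choose t ≤ (below t M).card
  | 0, h => absurd h (lt_irrefl 0)
  | M + 1, _ => by
    have hcard : (below t (M + 1)).card =
        (below t M).card + ((Finset.univ : Finset (Fin t)).finsuppAntidiag M).card := by
      rw [← Finset.card_union_of_disjoint]
      · congr 1
        ext β
        rw [Finset.mem_union, mem_below, mem_below, Finset.mem_finsuppAntidiag,
          Finsupp.degree_eq_sum]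
        simp only [Finset.subset_univ, and_true]
        have e : Finset.univ.sum ⇑β = ∑ i, β i := rfl
        omega
      · rw [Finset.disjoint_left]
        intro β h1 h2
        rw [mem_below, Finsupp.degree_eq_sum] at h1
        rw [Finset.mem_finsuppAntidiag] at h2
        have e : Finset.univ.sum ⇑β = ∑ i, β i := rfl
        omega
    rw [hcard]
    cases t with
    | zero =>
      rw [Nat.choose_zero_right]
      cases M with
      | zero => rw [Finset.card_finsuppAntidiag_nat_eq_choose]; simp
      | succ M =>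
        have := choose_le_card_below 0 (M + 1) (Nat.succ_pos M)
        rw [Nat.choose_zero_right] at this
        omega
    | succ t =>
      rw [Nat.choose_succ_succ', add_comm]
      refine Nat.add_le_add ?_ ?_
      · rcases Nat.eq_zero_or_pos M with rfl | hM
        · simp
        · exact choose_le_card_below (t + 1) M hM
      rw [Finset.card_finsuppAntidiag_nat_eq_choose, Finset.card_univ, Fintype.card_fin,
        show t + 1 + M - 1 = M + t by omega, Nat.choose_symm_add]
      exact Nat.choose_le_choose t (Nat.le_add_right M t)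

theorem length_eq_sum_below (x : Fin t → B) {J : Ideal B} {M : ℕ}
    (hJ : Ideal.span (Set.range x) ^ M ≤ J) :
    Module.length B (B ⧸ J) = ∑ a ∈ below t M, pl x J a := by
  rw [← length_out_eq_sum x J (below t M) (fun a ha b hb => by
    rw [mem_below] at ha ⊢
    exact lt_of_le_of_lt (degree_le_of_ord_lt hb) ha)]
  have hle : outI x (below t M) ≤ J := by
    rw [outI, Ideal.span_le]
    rintro _ ⟨β, hβ, rfl⟩
    rw [Set.mem_setOf_eq, mem_below, not_lt] at hβ
    exact hJ (Ideal.pow_le_pow_right hβ (mon_mem_pow x β))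
  rw [sup_eq_left.2 hle]

variable [IsLocalRing B]

/-- Monomials in analytically independent elements survive. -/
theorem one_le_pl_bot {x : Fin t → B} (hind : IR14.Indep (IsLocalRing.maximalIdeal B) x)
    (hx : ∀ i, x i ∈ IsLocalRing.maximalIdeal B) (α : Fin t →₀ ℕ) : 1 ≤ pl x ⊥ α := by
  classical
  rw [ENat.one_le_iff_ne_zero, ne_eq, pl_eq_zero_iff, bot_sup_eq]
  intro hmem
  obtain ⟨l, hl, hle⟩ := (Finsupp.mem_span_image_iff_linearCombination B).1 hmem
  rw [Finsupp.mem_supported] at hl
  let h := α.degree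
  let f : MvPolynomial (Fin t) B := MvPolynomial.monomial α 1 -
    ∑ β ∈ l.support.filter (fun β => β.degree = h), MvPolynomial.monomial β (l β)
  have hf : f.IsHomogeneous h := by
    refine (MvPolynomial.homogeneousSubmodule (Fin t) B h).sub_mem
      (MvPolynomial.isHomogeneous_monomial _ rfl) (Submodule.sum_mem _ fun β hβ => ?_)
    exact MvPolynomial.isHomogeneous_monomial _ (Finset.mem_filter.1 hβ).2
  have hev : MvPolynomial.eval x f =
      ∑ β ∈ l.support.filter (fun β => ¬ β.degree = h), l β * mon x β := by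
    rw [Finsupp.linearCombination_apply, Finsupp.sum] at hle
    simp only [smul_eq_mul] at hle
    rw [map_sub, map_sum, eval_monomial_eq, one_mul, ← hle,
      ← Finset.sum_filter_add_sum_filter_not l.support (fun β => β.degree = h)]
    simp only [eval_monomial_eq]
    ring
  have hm : MvPolynomial.eval x f ∈
      IsLocalRing.maximalIdeal B ^ h * IsLocalRing.maximalIdeal B := by
    rw [hev, ← pow_succ]
    refine sum_mem fun β hβ => Ideal.mul_mem_left _ _ ?_
    obtain ⟨hβs, hβd⟩ := Finset.mem_filter.1 hβ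
    have hlt : h < β.degree := lt_of_le_of_ne (degree_le_of_ord_lt (hl hβs)) (Ne.symm hβd)
    refine Ideal.pow_le_pow_right hlt (Ideal.pow_right_mono ?_ _ (mon_mem_pow x β))
    rw [Ideal.span_le]
    rintro _ ⟨i, rfl⟩
    exact hx i
  have hc := hind h f hf hm α
  rw [MvPolynomial.coeff_sub, MvPolynomial.coeff_monomial, if_pos rfl, MvPolynomial.coeff_sum,
    Finset.sum_eq_zero (fun β hβ => by
      rw [MvPolynomial.coeff_monomial, if_neg]
      rintro rfl
      exact lt_irrefl ((ord).toSyn _) (hl (Finset.mem_filter.1 hβ).1)), sub_zero] at hc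
  exact (IsLocalRing.maximalIdeal.isMaximal B).ne_top ((Ideal.eq_top_iff_one _).2 hc)

/-- The staircase bounds, given a reduction of the maximal ideal by analytically independent
elements. -/
theorem staircase_bounds [IsNoetherianRing B] {x : Fin t → B}
    (hind : IR14.Indep (IsLocalRing.maximalIdeal B) x) (hx : ∀ i, x i ∈ IsLocalRing.maximalIdeal B)
    {c : ℕ} (hred : ∀ m, IsLocalRing.maximalIdeal B ^ (m + c) ≤ Ideal.span (Set.range x) ^ m) :
    ∃ g N₀ G₀ : ℕ, 1 ≤ g ∧
      (∀ m : ℕ, 0 < m → ((g * m.choose t : ℕ) : ℕ∞) ≤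
        Module.length B (B ⧸ IsLocalRing.maximalIdeal B ^ (m + c))) ∧
      ∀ (I : Ideal B) (L : ℕ), Module.length B (B ⧸ I) = L →
        (∃ N, IsLocalRing.maximalIdeal B ^ N ≤ I) → ∀ n : ℕ, 0 < n →
          Module.length B (B ⧸ I ^ n) ≤ ((L * (g * n ^ t + t * N₀ * G₀ * n ^ (t - 1)) : ℕ) : ℕ∞) := by
  classical
  let Q := Ideal.span (Set.range x)
  have hQm : Q ≤ IsLocalRing.maximalIdeal B := by
    rw [Ideal.span_le]
    rintro _ ⟨i, rfl⟩
    exact hx i
  have hQfin : Module.length B (B ⧸ Q) ≠ ⊤ := by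
    refine LC17.length_ne_top_of_support fun p hp => ?_
    rw [Module.mem_support_iff_of_finite, Ideal.annihilator_quotient] at hp
    have hm : IsLocalRing.maximalIdeal B ≤ p.asIdeal := fun b hb => by
      refine p.2.mem_of_pow_mem (1 + c) (hp ?_)
      simpa [Q] using hred 1 (Ideal.pow_mem_pow hb (1 + c))
    rw [(IsLocalRing.maximalIdeal.isMaximal B).eq_of_le p.2.ne_top hm |>.symm]
    exact IsLocalRing.maximalIdeal.isMaximal B
  obtain ⟨G₀, hG₀⟩ : ∃ G₀ : ℕ, Module.length B (B ⧸ Q) = G₀ :=
    ⟨_, (ENat.natCast_toNat hQfin).symm⟩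
  have hpl : ∀ α, ∃ v : ℕ, pl x ⊥ α = v := fun α => ⟨_, (ENat.natCast_toNat
    (ne_top_of_le_ne_top hQfin (pl_le_length x ⊥ α))).symm⟩
  choose v hv using hpl
  have hex : ∃ g, ∃ α, v α = g := ⟨_, 0, rfl⟩
  obtain ⟨α₀, hα₀⟩ := Nat.find_spec hex
  have hmin : ∀ α, Nat.find hex ≤ v α := fun α => Nat.find_min' hex ⟨α, rfl⟩
  refine ⟨Nat.find hex, α₀.degree, G₀, ?_, fun m hm => ?_, fun I L hL hN n hn => ?_⟩
  · rw [← hα₀]
    have := one_le_pl_bot hind hx α₀
    rw [hv] at this
    exact_mod_cast this
  · refine le_trans ?_ (Module.length_le_of_surjective (Submodule.factor (hred m))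
      (Submodule.factor_surjective _))
    rw [length_eq_sum_below x le_rfl, Finset.sum_congr rfl fun a ha => by
      rw [pl_eq_bot_of_le (pow_le_hiI x (mem_below.1 ha)), hv]]
    rw [← Nat.cast_sum, Nat.cast_le]
    calc Nat.find hex * m.choose t ≤ Nat.find hex * (below t m).card :=
          Nat.mul_le_mul_left _ (choose_le_card_below t m hm)
      _ = (below t m).card • Nat.find hex := by rw [smul_eq_mul, mul_comm]
      _ ≤ _ := Finset.card_nsmul_le_sum _ _ _ fun a _ => hmin a
  · obtain ⟨N, hN⟩ := hN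
    have hQN : Q ^ N ≤ I := (Ideal.pow_right_mono hQm N).trans hN
    let S := (below t N).filter fun α => mon x α ∉ I ⊔ hiI x α
    have hScard : S.card ≤ L := by
      have h1 := length_eq_sum_below x hQN
      rw [hL] at h1
      have h2 : ((S.card : ℕ) : ℕ∞) ≤ (L : ℕ∞) := by
        rw [h1]
        refine le_trans ?_ (Finset.sum_le_sum_of_subset (s := S) (t := below t N) (Finset.filter_subset _ _))
        rw [← nsmul_one]
        refine Finset.card_nsmul_le_sum _ _ _ fun a ha => ?_
        rw [ENat.one_le_iff_ne_zero, ne_eq, pl_eq_zero_iff]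
        exact (Finset.mem_filter.1 ha).2
      exact_mod_cast h2
    -- the exponents of the box
    let box : Finset (Fin t →₀ ℕ) :=
      (Fintype.piFinset fun _ : Fin t => Finset.range n).map Finsupp.equivFunOnFinite.symm.toEmbedding
    have hbox : ∀ γ : Fin t →₀ ℕ, γ ∈ box ↔ ∀ i, γ i < n := fun γ => by
      simp only [box, Finset.mem_map_equiv, Equiv.symm_symm, Fintype.mem_piFinset, Finset.mem_range]
      rfl
    have hboxc : box.card = n ^ t := by simp [box]
    have hbad : (box.filter fun γ : Fin t →₀ ℕ => ∃ i, γ i < α₀.degree).card ≤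
        t * α₀.degree * n ^ (t - 1) := by
      let T : Fin t → Finset (Fin t →₀ ℕ) := fun i =>
        (Fintype.piFinset fun j : Fin t => Finset.range (if j = i then α₀.degree else n)).map
          Finsupp.equivFunOnFinite.symm.toEmbedding
      have hsub : (box.filter fun γ : Fin t →₀ ℕ => ∃ i, γ i < α₀.degree) ⊆
          Finset.univ.biUnion T := fun γ hγ => by
        obtain ⟨hγb, i, hi⟩ := Finset.mem_filter.1 hγ
        refine Finset.mem_biUnion.2 ⟨i, Finset.mem_univ i, ?_⟩
        simp only [T, Finset.mem_map_equiv, Equiv.symm_symm, Fintype.mem_piFinset, Finset.mem_range]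
        intro j
        split_ifs with h
        · subst h; exact hi
        · exact (hbox γ).1 hγb j
      refine (Finset.card_le_card hsub).trans (Finset.card_biUnion_le.trans ?_)
      refine (Finset.sum_le_card_nsmul _ _ (α₀.degree * n ^ (t - 1)) fun i _ => le_of_eq ?_).trans
        (le_of_eq (by simp [mul_assoc]))
      simp [T, Finset.prod_ite, Finset.filter_eq', Finset.filter_ne']
    have hboxsum : ∑ γ ∈ box, v γ ≤ Nat.find hex * n ^ t + t * α₀.degree * G₀ * n ^ (t - 1) := by
      rw [← Finset.sum_filter_add_sum_filter_not box (fun γ : Fin t →₀ ℕ => ∃ i, γ i < α₀.degree),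
        add_comm]
      refine Nat.add_le_add ?_ ?_
      · refine (Finset.sum_le_card_nsmul _ _ (Nat.find hex) fun γ hγ => ?_).trans ?_
        · obtain ⟨-, hγ⟩ := Finset.mem_filter.1 hγ
          push_neg at hγ
          have hle : α₀ ≤ γ := fun i => (Finsupp.le_degree i α₀).trans (hγ i)
          obtain ⟨δ, rfl⟩ := exists_add_of_le hle
          have := pl_bot_anti x α₀ δ
          rw [hv, hv] at this
          rw [← hα₀]
          exact_mod_cast this
        · rw [smul_eq_mul, mul_comm, ← hboxc]
          exact Nat.mul_le_mul_left _ (Finset.card_filter_le _ _)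
      · refine (Finset.sum_le_card_nsmul _ _ G₀ fun γ _ => ?_).trans ?_
        · have := pl_le_length x ⊥ γ
          rw [hv, hG₀] at this
          exact_mod_cast this
        · rw [smul_eq_mul, mul_right_comm _ G₀]
          exact Nat.mul_le_mul_right _ hbad
    -- the boxes
    let e : (Fin t →₀ ℕ) × (Fin t →₀ ℕ) → (Fin t →₀ ℕ) := fun p => n • p.1 + p.2
    have hsum := length_eq_sum_below x (J := I ^ n) (M := n * N)
      (by rw [mul_comm, pow_mul]; exact Ideal.pow_right_mono hQN n)
    rw [hsum]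
    have hle : ∑ μ ∈ below t (n * N), pl x (I ^ n) μ ≤ ∑ p ∈ S ×ˢ box, ((v p.2 : ℕ) : ℕ∞) := by
      rw [← Finset.sum_filter_ne_zero]
      refine le_trans (Finset.sum_le_sum_of_subset (t := (S ×ˢ box).image e) fun μ hμ => ?_) ?_
      · obtain ⟨-, hne⟩ := Finset.mem_filter.1 hμ
        let α : Fin t →₀ ℕ := Finsupp.equivFunOnFinite.symm fun i => μ i / n
        let γ : Fin t →₀ ℕ := Finsupp.equivFunOnFinite.symm fun i => μ i % n
        have hμe : μ = n • α + γ := Finsupp.ext fun i => (Nat.div_add_mod (μ i) n).symm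
        have hα : mon x α ∉ I ⊔ hiI x α := fun hmem => by
          apply hne
          rw [pl_eq_zero_iff]
          obtain ⟨i, hi, h, hh, hs⟩ := Submodule.mem_sup.1 hmem
          have h1 : i - mon x α ∈ hiI x α := by
            rw [← hs, sub_add_cancel_left]; exact neg_mem hh
          have h2 := hiI_mul_mon (pow_sub_mon_mem h1 n) γ
          rw [← hμe] at h2
          rw [show mon x μ = i ^ n * mon x γ - (i ^ n - mon x (n • α)) * mon x γ by
            rw [hμe, mon_add]; ring]
          exact sub_mem (Submodule.mem_sup_left (Ideal.mul_mem_right _ _ (Ideal.pow_mem_pow hi n)))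
            (Submodule.mem_sup_right h2)
        refine Finset.mem_image.2 ⟨(α, γ), Finset.mem_product.2 ⟨?_, ?_⟩, hμe.symm⟩
        · refine Finset.mem_filter.2 ⟨mem_below.2 (not_le.1 fun hdeg => hα ?_), hα⟩
          exact Submodule.mem_sup_left (hQN (Ideal.pow_le_pow_right hdeg (mon_mem_pow x α)))
        · exact (hbox γ).2 fun i => Nat.mod_lt _ hn
      · refine le_trans (Finset.sum_image_le_of_nonneg fun _ _ => bot_le) ?_
        refine Finset.sum_le_sum fun p _ => ?_
        rw [← hv]
        refine (pl_anti_left x bot_le _).trans ?_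
        change pl x ⊥ (n • p.1 + p.2) ≤ _
        rw [add_comm]
        exact pl_bot_anti x _ _
    refine hle.trans ?_
    simp only [Finset.sum_product, Finset.sum_const]
    rw [← Nat.cast_sum, nsmul_eq_mul, ← Nat.cast_mul, Nat.cast_le]
    exact Nat.mul_le_mul hScard hboxsum

/-- A reduction of the maximal ideal by analytically independent elements. -/
theorem exists_indep_reduction [IsNoetherianRing B] [Infinite (IsLocalRing.ResidueField B)] :
    ∃ (t : ℕ) (x : Fin t → B) (c : ℕ), IR14.Indep (IsLocalRing.maximalIdeal B) x ∧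
      (∀ i, x i ∈ IsLocalRing.maximalIdeal B) ∧
      ∀ m, IsLocalRing.maximalIdeal B ^ (m + c) ≤ Ideal.span (Set.range x) ^ m := by
  obtain ⟨a, -, ha⟩ := IR14.exists_minimalReduction (IR14.isReduction_refl (IsLocalRing.maximalIdeal B))
  obtain ⟨v, hv⟩ := IR14.exists_fin_gens a
  obtain ⟨s, hs⟩ := ha.1.2
  refine ⟨_, v, s, IR14.indep_of_isMinimalReduction inferInstance
    (IsLocalRing.maximalIdeal.isMaximal B).ne_top ha hv rfl,
    fun i => ha.1.1 (hv ▸ Ideal.subset_span ⟨i, rfl⟩), fun m => ?_⟩
  rw [hv]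
  induction m with
  | zero => simp
  | succ m ih =>
    rw [show m + 1 + s = m + (s + 1) by omega, pow_add, ← hs, mul_left_comm, ← pow_add, pow_succ']
    exact Ideal.mul_mono_right ih

end Groth.Agent.LA18
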