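import Groth.Agent.Koszul19.BaseChange
import Groth.Agent.DR39.Elem
import Mathlib.Algebra.Module.Projective

/-!
# Lifting into base-changed Koszul complexes with killed homology

If an element `c` of an `A`-algebra `B` kills the homology of `B ⊗ K(x)` in negative degrees and
`f : K(x) → F` is a map to a complex of projectives inducing an isomorphism on `H⁰`, then the top
component of `f` has image in `m F` only if a power of `c` lies in `m B`.
-/

set_option autoImplicit false

universe u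

open CategoryTheory TensorProduct Groth.Agent.Koszul19

namespace Groth.Agent.LA18

variable {A : Type u} [CommRing A] (B : Type u) [CommRing B] [Algebra A B]

/-- the differential of `B ⊗ K` -/
noncomputable abbrev bd (K : CochainComplex (ModuleCat.{u} A) ℤ) (p q : ℤ) :
    B ⊗[A] (K.X p : Type u) →ₗ[B] B ⊗[A] (K.X q : Type u) :=
  (dd K p q).baseChange B

variable {B}

lemma bd_bd (K : CochainComplex (ModuleCat.{u} A) ℤ) (p q r : ℤ) (z : B ⊗[A] (K.X p : Type u)) :
    bd B K q r (bd B K p q z) = 0 := by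
  induction z with
  | zero => simp
  | add a b ha hb => simp only [map_add, ha, hb, add_zero]
  | tmul b x => simp [bd, LinearMap.baseChange_tmul, dd_dd]

variable {K F : CochainComplex (ModuleCat.{u} A) ℤ}

theorem exists_lift (f : K ⟶ F) (hK : ∀ i, Module.Projective A (K.X i : Type u))
    (hF : ∀ i, Module.Projective A (F.X i : Type u)) (c : B)
    (hc : ∀ p q r : ℤ, p + 1 = q → q + 1 = r → q < 0 → ∀ z, bd B K q r z = 0 →
      c • z ∈ LinearMap.range (bd B K p q))
    (u0 : (F.X 0 : Type u) →ₗ[A] B ⊗[A] (K.X 0 : Type u))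
    (h1 : ∀ v : F.X (-1), u0 (dd F (-1) 0 v) ∈ LinearMap.range (bd B K (-1) 0))
    (h2 : ∀ k : K.X 0, u0 ((f.f 0).hom k) - 1 ⊗ₜ k ∈ LinearMap.range (bd B K (-1) 0)) :
    ∀ (j : ℕ) (p q r : ℤ), q = -(j : ℤ) → p + 1 = q → q + 1 = r →
      ∃ w : (F.X q : Type u) →ₗ[A] B ⊗[A] (K.X q : Type u),
        (∀ v : F.X p, c • w (dd F p q v) ∈ LinearMap.range (bd B K p q)) ∧
        ∃ g : (K.X r : Type u) →ₗ[A] B ⊗[A] (K.X q : Type u), ∀ k : K.X q,
          c ^ j • (w ((f.f q).hom k) - c ^ j • (1 ⊗ₜ k)) - g (dd K q r k) ∈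
            LinearMap.range (bd B K p q) := by
  intro j
  induction j with
  | zero =>
    intro p q r hq hp hr
    obtain rfl : q = 0 := by simpa using hq
    obtain rfl : p = -1 := by omega
    refine ⟨u0, fun v => Submodule.smul_mem _ c (h1 v), 0, fun k => ?_⟩
    simpa using h2 k
  | succ j ih =>
    intro p q r hq hp hr
    have hr0 : r = -(j : ℤ) := by omega
    obtain ⟨w, hw, g, hg⟩ := ih q r (r + 1) hr0 hr rfl
    -- the next component
    have := hF q
    let cw : (F.X q : Type u) →ₗ[A] LinearMap.range ((bd B K q r).restrictScalars A) :=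
      LinearMap.codRestrict _ ((DistribSMul.toLinearMap A _ c).comp (w.comp (dd F q r)))
        (fun v => hw v)
    obtain ⟨w', hw'⟩ := Module.projective_lifting_property
      ((bd B K q r).restrictScalars A).rangeRestrict cw
      ((bd B K q r).restrictScalars A).surjective_rangeRestrict
    have hw'' : ∀ v, bd B K q r (w' v) = c • w (dd F q r v) := fun v =>
      congrArg Subtype.val (LinearMap.congr_fun hw' v)
    have hq0 : q < 0 := by omega
    refine ⟨w', fun v => hc p q r hp hr hq0 _ ?_, ?_⟩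
    · rw [hw'', dd_dd, map_zero, smul_zero]
    -- the homotopy
    have := hK r
    let φ : (K.X r : Type u) →ₗ[A] LinearMap.range ((bd B K q r).restrictScalars A) :=
      LinearMap.codRestrict _
        ((DistribSMul.toLinearMap A _ (c ^ j)).comp
          (w.comp (f.f r).hom -
            (DistribSMul.toLinearMap A _ (c ^ j)).comp (TensorProduct.mk A B _ 1)) -
          g.comp (dd K r (r + 1)))
        (fun k => hg k)
    obtain ⟨h, hh⟩ := Module.projective_lifting_property
      ((bd B K q r).restrictScalars A).rangeRestrict φ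
      ((bd B K q r).restrictScalars A).surjective_rangeRestrict
    have hh' : ∀ k, bd B K q r (h k) =
        c ^ j • (w ((f.f r).hom k) - c ^ j • (1 ⊗ₜ k)) - g (dd K r (r + 1) k) := fun k =>
      congrArg Subtype.val (LinearMap.congr_fun hh k)
    refine ⟨(DistribSMul.toLinearMap A _ (c ^ 2)).comp h, fun k => ?_⟩
    have hcomm : dd F q r ((f.f q).hom k) = (f.f r).hom (dd K q r k) :=
      (DR39.f_apply_d f q r k).symm
    have hz : bd B K q r
        (c ^ j • (w' ((f.f q).hom k) - c ^ (j + 1) • (1 ⊗ₜ k)) - c • h (dd K q r k)) = 0 := by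
      simp only [map_sub, LinearMap.map_smul, hw'', hcomm, hh', dd_dd, map_zero, sub_zero]
      rw [show bd B K q r (1 ⊗ₜ[A] k) = 1 ⊗ₜ[A] dd K q r k from LinearMap.baseChange_tmul _ _ _,
        smul_sub, smul_sub, smul_sub, smul_smul, smul_smul, smul_smul, smul_smul, smul_smul,
        ← pow_succ, ← pow_succ']
      ring_nf
      abel
    have := hc p q r hp hr hq0 _ hz
    rw [smul_sub, smul_smul, smul_smul, ← pow_succ', ← pow_two] at this
    simpa using this

theorem pow_mem_of_lift (f : K ⟶ F) (hK : ∀ i, Module.Projective A (K.X i : Type u))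
    (hF : ∀ i, Module.Projective A (F.X i : Type u)) (c : B)
    (hc : ∀ p q r : ℤ, p + 1 = q → q + 1 = r → q < 0 → ∀ z, bd B K q r z = 0 →
      c • z ∈ LinearMap.range (bd B K p q))
    (hH : Function.Bijective (HomologicalComplex.homologyMap f 0).hom)
    (hK1 : Subsingleton (K.X 1 : Type u)) (hF1 : Subsingleton (F.X 1 : Type u)) (J : Ideal A) (d : ℕ)
    (hd : ∀ k : K.X (-(d : ℤ)), dd K _ (-(d : ℤ) + 1) k ∈ J • (⊤ : Submodule A (K.X (-(d : ℤ) + 1))))
    (top : (K.X (-(d : ℤ)) : Type u) ≃ₗ[A] A) (hbot : Subsingleton (K.X (-(d : ℤ) - 1) : Type u))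
    (hf : LinearMap.range (f.f (-(d : ℤ))).hom ≤
      J • (⊤ : Submodule A (F.X (-(d : ℤ))))) :
    c ^ (d + d) ∈ J.map (algebraMap A B) := by
  obtain ⟨hinj, hsurj⟩ := hH
  rw [DR39.injective_homologyMap_iff] at hinj
  rw [DR39.surjective_homologyMap_iff] at hsurj
  -- the map in degree zero
  let RE : Submodule A (B ⊗[A] (K.X 0 : Type u)) := LinearMap.range ((bd B K (-1) 0).restrictScalars A)
  let θ : (K.X 0 : Type u) →ₗ[A] (B ⊗[A] (K.X 0 : Type u)) ⧸ RE :=
    RE.mkQ.comp (TensorProduct.mk A B _ 1)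
  have hθ : LinearMap.range (dd K (-1) 0) ≤ LinearMap.ker θ := by
    rintro _ ⟨k, rfl⟩
    refine (Submodule.Quotient.mk_eq_zero _).2 ⟨1 ⊗ₜ k, ?_⟩
    exact LinearMap.baseChange_tmul _ _ _
  let fbar : ((K.X 0 : Type u) ⧸ LinearMap.range (dd K (-1) 0)) →ₗ[A]
      ((F.X 0 : Type u) ⧸ LinearMap.range (dd F (-1) 0)) :=
    Submodule.mapQ _ _ (f.f 0).hom (by
      rintro _ ⟨k, rfl⟩
      exact ⟨(f.f (-1)).hom k, (DR39.f_apply_d f (-1) 0 k).symm⟩)
  have hbij : Function.Bijective fbar := by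
    refine ⟨(injective_iff_map_eq_zero fbar).2 fun x hx => ?_, fun y => ?_⟩
    · obtain ⟨x, rfl⟩ := Submodule.Quotient.mk_surjective _ x
      obtain ⟨y, hy⟩ := (Submodule.Quotient.mk_eq_zero _).1 hx
      refine (Submodule.Quotient.mk_eq_zero _).2 ?_
      exact hinj x (hK1.elim _ _) y hy
    · obtain ⟨z, rfl⟩ := Submodule.Quotient.mk_surjective _ y
      obtain ⟨x, -, hx⟩ := hsurj z (hF1.elim _ _)
      exact ⟨Submodule.Quotient.mk x, (Submodule.Quotient.eq _).2 hx⟩
  let π : (F.X 0 : Type u) →ₗ[A] (B ⊗[A] (K.X 0 : Type u)) ⧸ RE :=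
    ((Submodule.liftQ _ θ hθ).comp (LinearEquiv.ofBijective fbar hbij).symm.toLinearMap).comp
      (Submodule.mkQ _)
  have := hF 0
  obtain ⟨u0, hu0⟩ := Module.projective_lifting_property RE.mkQ π RE.mkQ_surjective
  have hu0' : ∀ v, Submodule.Quotient.mk (u0 v) = π v := LinearMap.congr_fun hu0
  have h1 : ∀ v : F.X (-1), u0 (dd F (-1) 0 v) ∈ LinearMap.range (bd B K (-1) 0) := fun v => by
    refine (Submodule.Quotient.mk_eq_zero RE).1 ?_
    rw [hu0']
    have : (Submodule.Quotient.mk (dd F (-1) 0 v) :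
        (F.X 0 : Type u) ⧸ LinearMap.range (dd F (-1) 0)) = 0 :=
      (Submodule.Quotient.mk_eq_zero _).2 ⟨v, rfl⟩
    simp [π, this]
  have h2 : ∀ k : K.X 0, u0 ((f.f 0).hom k) - 1 ⊗ₜ k ∈ LinearMap.range (bd B K (-1) 0) := fun k => by
    refine (Submodule.Quotient.eq RE).1 ?_
    rw [hu0']
    have : (LinearEquiv.ofBijective fbar hbij).symm (Submodule.Quotient.mk ((f.f 0).hom k)) =
        Submodule.Quotient.mk k := (LinearEquiv.symm_apply_eq _).2 rfl
    simp [π, this, θ]
  obtain ⟨w, -, g, hg⟩ := exists_lift f hK hF c hc u0 h1 h2 d (-(d : ℤ) - 1) (-(d : ℤ))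
    (-(d : ℤ) + 1) rfl (by omega) rfl
  let k0 := top.symm 1
  obtain ⟨z, hz⟩ := hg k0
  have : Subsingleton (B ⊗[A] (K.X (-(d : ℤ) - 1) : Type u)) := inferInstance
  rw [Subsingleton.elim z 0, map_zero] at hz
  let φ : (B ⊗[A] (K.X (-(d : ℤ)) : Type u)) ≃ₗ[B] B :=
    (top.baseChange A B).trans (TensorProduct.AlgebraTensorModule.rid A B B)
  have hmem : ∀ {X : Type u} [AddCommGroup X] [Module A X]
      (h : X →ₗ[A] B ⊗[A] (K.X (-(d : ℤ)) : Type u)) (x : X), x ∈ J • (⊤ : Submodule A X) →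
      φ (h x) ∈ J.map (algebraMap A B) := by
    intro X _ _ h x hx
    induction hx using Submodule.smul_induction_on' with
    | smul a ha y _ =>
      rw [map_smul, ← algebraMap_smul B a (h y), LinearEquiv.map_smul, smul_eq_mul]
      exact Ideal.mul_mem_right _ _ (Ideal.mem_map_of_mem _ ha)
    | add a _ b _ ha hb => rw [map_add, map_add]; exact add_mem ha hb
  have e : φ (1 ⊗ₜ k0) = 1 := by simp [φ, k0]
  have h3 : c ^ d • w ((f.f _).hom k0) - g (dd K _ _ k0) = c ^ (d + d) • (1 ⊗ₜ k0) := by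
    have := hz.symm
    rw [smul_sub, sub_right_comm, sub_eq_zero] at this
    rw [pow_add, mul_smul]
    exact this
  have h4 := congrArg φ h3
  rw [map_sub, LinearEquiv.map_smul, LinearEquiv.map_smul, e, smul_eq_mul, smul_eq_mul, mul_one] at h4
  rw [← h4]
  exact sub_mem (Ideal.mul_mem_left _ _ (hmem w _ (hf ⟨k0, rfl⟩))) (hmem g _ (hd k0))

end Groth.Agent.LA18
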