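import Groth.Agent.LA18.Lech
import Mathlib.RingTheory.MvPowerSeries.Inverse
import Mathlib.RingTheory.MvPowerSeries.Equiv

/-!
# Monomial ideals of power series rings
-/

universe u

open Finsupp
open scoped MonomialOrder

namespace Groth.Agent.LA18

variable {k : Type u} [Field k] {t : ℕ}

local notation "ord" => (MonomialOrder.degLex : MonomialOrder (Fin t))

/-- The ideal generated by the monomials in the list. -/
noncomputable def monI (L : List (Fin t →₀ ℕ)) : Ideal (MvPowerSeries (Fin t) k) :=
  Ideal.span {φ | ∃ g ∈ L, φ = MvPowerSeries.monomial g 1}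

theorem mem_monI {L : List (Fin t →₀ ℕ)} {f : MvPowerSeries (Fin t) k} :
    f ∈ monI L ↔ ∀ α, (∀ g ∈ L, ¬ g ≤ α) → MvPowerSeries.coeff α f = 0 := by
  classical
  refine ⟨fun hf α hα => ?_, ?_⟩
  · induction hf using Submodule.span_induction generalizing α with
    | mem φ hφ =>
      obtain ⟨g, hg, rfl⟩ := hφ
      rw [MvPowerSeries.coeff_monomial, if_neg]
      rintro rfl
      exact hα _ hg le_rfl
    | zero => simp
    | add a b _ _ ha hb => rw [map_add, ha α hα, hb α hα, add_zero]
    | smul c φ _ hφ =>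
      rw [smul_eq_mul, MvPowerSeries.coeff_mul]
      refine Finset.sum_eq_zero fun p hp => ?_
      rw [Finset.HasAntidiagonal.mem_antidiagonal] at hp
      rw [hφ p.2 fun g hg hle => hα g hg (hle.trans (hp ▸ le_add_self)), mul_zero]
  · induction L generalizing f with
    | nil =>
      intro hf
      rw [show f = 0 from MvPowerSeries.ext fun α => by
        rw [map_zero]; exact hf α (fun g hg => absurd hg List.not_mem_nil)]
      exact zero_mem _
    | cons g L ih =>
      intro hf
      let h : MvPowerSeries (Fin t) k := fun β => MvPowerSeries.coeff (β + g) f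
      have hsub : monI (k := k) L ≤ monI (g :: L) := by
        apply Ideal.span_mono
        rintro ψ ⟨g', hg', e⟩
        exact ⟨g', List.mem_cons_of_mem _ hg', e⟩
      have hmem : ∀ {φ : MvPowerSeries (Fin t) k}, φ ∈ monI L → φ ∈ monI (g :: L) :=
        fun hφ => hsub hφ
      rw [show f = (f - MvPowerSeries.monomial g 1 * h) + MvPowerSeries.monomial g 1 * h by ring]
      refine add_mem (hmem (ih fun α hα => ?_))
        (Ideal.mul_mem_right _ _ (Ideal.subset_span ⟨g, List.mem_cons_self, rfl⟩))
      rw [map_sub, MvPowerSeries.coeff_monomial_mul]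
      split_ifs with hle
      · rw [one_mul]
        change _ - MvPowerSeries.coeff (α - g + g) f = 0
        rw [tsub_add_cancel_of_le hle, sub_self]
      · rw [sub_zero]
        refine hf α fun g' hg' => ?_
        rcases List.mem_cons.1 hg' with rfl | hg'
        · exact hle
        · exact hα g' hg'

theorem mon_X (α : Fin t →₀ ℕ) :
    mon (MvPowerSeries.X : Fin t → MvPowerSeries (Fin t) k) α = MvPowerSeries.monomial α 1 := by
  induction α using Finsupp.induction with
  | zero => simp [mon_zero]
  | single_add i n α _ _ ih =>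
    rw [mon_add, show (single i n : Fin t →₀ ℕ) = n • single i 1 by simp, mon_nsmul, mon_single,
      MvPowerSeries.X_pow_eq, ih, MvPowerSeries.monomial_mul_monomial, mul_one,
      show (n • single i 1 : Fin t →₀ ℕ) = single i n by simp]

theorem length_quot_span_X :
    Module.length (MvPowerSeries (Fin t) k)
      (MvPowerSeries (Fin t) k ⧸
        Ideal.span (Set.range (MvPowerSeries.X : Fin t → MvPowerSeries (Fin t) k))) ≤ 1 := by
  classical
  let c : MvPowerSeries (Fin t) k →+* k := MvPowerSeries.constantCoeff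
  have hmax : (RingHom.ker c).IsMaximal :=
    RingHom.ker_isMaximal_of_surjective c fun a => ⟨MvPowerSeries.C a, by simp [c]⟩
  have hle : RingHom.ker c ≤ Ideal.span (Set.range (MvPowerSeries.X : Fin t → MvPowerSeries (Fin t) k)) := by
    intro f hf
    have h : f ∈ monI ((List.ofFn fun i : Fin t => (single i 1 : Fin t →₀ ℕ))) := by
      rw [mem_monI]
      intro α hα
      have : α = 0 := Finsupp.ext fun i => by
        by_contra hi
        exact hα _ (List.mem_ofFn.2 ⟨i, rfl⟩)
          (Finsupp.single_le_iff.2 (Nat.one_le_iff_ne_zero.2 hi))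
      subst this
      rw [MvPowerSeries.coeff_zero_eq_constantCoeff]
      exact hf
    refine Ideal.span_mono ?_ h
    rintro _ ⟨g, hg, rfl⟩
    obtain ⟨i, rfl⟩ := List.mem_ofFn.1 hg
    exact ⟨i, rfl⟩
  refine (Module.length_le_of_surjective (Submodule.factor hle)
    (Submodule.factor_surjective _)).trans (le_of_eq ?_)
  rw [Module.length_eq_one_iff, isSimpleModule_iff_isCoatom, ← Ideal.isMaximal_def]
  exact hmax

/-- The colength of a monomial ideal counts the monomials outside it. -/
theorem length_quot_monI (L : List (Fin t →₀ ℕ)) {M : ℕ}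
    (hM : ∀ β : Fin t →₀ ℕ, β.degree = M → ∃ g ∈ L, g ≤ β) :
    Module.length (MvPowerSeries (Fin t) k) (MvPowerSeries (Fin t) k ⧸ monI (k := k) L) =
      (((below t M).filter fun α => ∀ g ∈ L, ¬ g ≤ α).card : ℕ∞) := by
  classical
  have hpow : Ideal.span (Set.range (MvPowerSeries.X : Fin t → MvPowerSeries (Fin t) k)) ^ M ≤ monI (k := k) L := by
    refine (pow_span_le_monomials _ M).trans (Ideal.span_le.2 ?_)
    rintro _ ⟨β, hβ, rfl⟩
    rw [SetLike.mem_coe, mem_monI]
    intro α hα
    rw [mon_X, MvPowerSeries.coeff_monomial, if_neg]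
    rintro rfl
    obtain ⟨g, hg, hle⟩ := hM α hβ
    exact hα g hg hle
  rw [length_eq_sum_below _ hpow, Finset.card_filter, Nat.cast_sum]
  refine Finset.sum_congr rfl fun α _ => ?_
  split_ifs with hα
  · rw [Nat.cast_one]
    refine le_antisymm ((pl_le_length _ _ α).trans length_quot_span_X) ?_
    rw [ENat.one_le_iff_ne_zero, ne_eq, pl_eq_zero_iff, mon_X]
    intro hmem
    obtain ⟨a, ha, b, hb, hab⟩ := Submodule.mem_sup.1 hmem
    have h1 : MvPowerSeries.coeff α b = 0 := by
      have key : ∀ b ∈ hiI (MvPowerSeries.X : Fin t → MvPowerSeries (Fin t) k) α,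
          ∀ γ : Fin t →₀ ℕ, γ ≤ α → MvPowerSeries.coeff γ b = 0 := by
        intro b hb
        induction hb using Submodule.span_induction with
        | mem b hb =>
          obtain ⟨β, hβ, rfl⟩ := hb
          intro γ hγ
          rw [mon_X, MvPowerSeries.coeff_monomial, if_neg]
          rintro rfl
          exact not_lt.2 ((ord).toSyn_monotone hγ) hβ
        | zero => simp
        | add a b _ _ ha hb => intro γ hγ; rw [map_add, ha γ hγ, hb γ hγ, add_zero]
        | smul c b _ hb =>
          intro γ hγ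
          rw [smul_eq_mul, MvPowerSeries.coeff_mul]
          refine Finset.sum_eq_zero fun p hp => ?_
          rw [Finset.HasAntidiagonal.mem_antidiagonal] at hp
          rw [hb p.2 (le_trans (hp ▸ le_add_self) hγ), mul_zero]
      exact key b hb α le_rfl
    have h2 := congrArg (MvPowerSeries.coeff α) hab
    rw [map_add, (mem_monI.1 ha) α hα, h1, add_zero, MvPowerSeries.coeff_monomial, if_pos rfl] at h2
    exact zero_ne_one h2
  · rw [Nat.cast_zero, pl_eq_zero_iff, mon_X]
    push Not at hα
    obtain ⟨g, hg, hle⟩ := hα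
    refine Submodule.mem_sup_left (mem_monI.2 fun β hβ => ?_)
    rw [MvPowerSeries.coeff_monomial, if_neg]
    rintro rfl
    exact hβ g hg hle

/-- Monomials are regular modulo monomial ideals not involving their variable. -/
theorem mem_monI_of_X_pow_mul {L : List (Fin t →₀ ℕ)} {s : Fin t} {e : ℕ}
    (hL : ∀ g ∈ L, g s = 0) {f : MvPowerSeries (Fin t) k}
    (h : MvPowerSeries.X s ^ e * f ∈ monI L) : f ∈ monI L := by
  classical
  rw [mem_monI] at h ⊢
  intro α hα
  have h2 := h (single s e + α) fun g hg hle => hα g hg fun i => by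
    rcases eq_or_ne i s with rfl | hne
    · rw [hL g hg]; exact Nat.zero_le _
    · have := hle i
      rwa [Finsupp.add_apply, Finsupp.single_eq_of_ne hne, zero_add] at this
  rwa [MvPowerSeries.X_pow_eq, MvPowerSeries.coeff_monomial_mul, if_pos le_self_add,
    add_tsub_cancel_left, one_mul] at h2

/-- An exponent in three variables. -/
noncomputable def ex3 (v : Fin 3 → ℕ) : Fin 3 →₀ ℕ := Finsupp.equivFunOnFinite.symm v

theorem ex3_le {v : Fin 3 → ℕ} {α : Fin 3 →₀ ℕ} :
    ex3 v ≤ α ↔ v 0 ≤ α 0 ∧ v 1 ≤ α 1 ∧ v 2 ≤ α 2 :=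
  ⟨fun h => ⟨h 0, h 1, h 2⟩, fun ⟨h0, h1, h2⟩ i => by fin_cases i <;> assumption⟩

theorem monomial_ex3 (v : Fin 3 → ℕ) :
    MvPowerSeries.monomial (ex3 v) (1 : k) =
      MvPowerSeries.X 0 ^ v 0 * MvPowerSeries.X 1 ^ v 1 * MvPowerSeries.X 2 ^ v 2 := by
  rw [← mon_X, mon, Fin.prod_univ_three]
  rfl

theorem degree_three (β : Fin 3 →₀ ℕ) : β.degree = β 0 + β 1 + β 2 := by
  rw [Finsupp.degree_eq_sum, Fin.sum_univ_three]

theorem card_filter_below (L : List (Fin 3 → ℕ)) (M : ℕ) :
    ((below 3 M).filter fun α => ∀ g ∈ L.map ex3, ¬ g ≤ α).card =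
      ((Fintype.piFinset fun _ : Fin 3 => Finset.range M).filter fun v =>
        v 0 + v 1 + v 2 < M ∧ ∀ g ∈ L, ¬ (g 0 ≤ v 0 ∧ g 1 ≤ v 1 ∧ g 2 ≤ v 2)).card := by
  classical
  refine Finset.card_equiv Finsupp.equivFunOnFinite fun α => ?_
  simp only [Finset.mem_filter, mem_below, degree_three, Fintype.mem_piFinset, Finset.mem_range,
    List.forall_mem_map, ex3_le]
  refine ⟨fun ⟨h1, h2⟩ => ⟨?_, h1, h2⟩, fun ⟨_, h1, h2⟩ => ⟨h1, h2⟩⟩
  intro i
  change α i < M
  fin_cases i <;> simp only [Fin.zero_eta, Fin.mk_one, Fin.reduceFinMk] <;> omega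

end Groth.Agent.LA18
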